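import Groth.Agent.Books.CoeffMat
import Groth.Prelude.Def_GLin5
import Mathlib.RingTheory.FiniteType

/-!
# Homomorphisms to the general linear group and linearity of affine algebraic groups
-/

set_option autoImplicit false

universe u v

open TensorProduct HopfRep

namespace K191.GLEmb

open Groth.Agent.Books.ComodBasic Groth.Agent.Books.ComodHom Groth.Agent.Books.CoeffMat

section Hom

variable {k : Type u} [CommRing k] {A : Type v} [CommRing A]

/-- An algebra map out of the coordinate ring of the general linear group is determined by the entries. -/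
lemma algHom_ext' [Algebra k A] {n : ℕ} {f g : CoordGrp.GLn n k →ₐ[k] A}
    (h : ∀ i j, f (CoordGrp.GLn.X i j) = g (CoordGrp.GLn.X i j)) : f = g := by
  refine CoordGrp.GLn.algHom_ext h ?_
  have hf : f CoordGrp.GLn.Dinv * f CoordGrp.GLn.det = 1 := by
    rw [← map_mul, CoordGrp.GLn.Dinv_mul_det, map_one]
  have hg : g CoordGrp.GLn.det * g CoordGrp.GLn.Dinv = 1 := by
    rw [← map_mul, mul_comm, CoordGrp.GLn.Dinv_mul_det, map_one]
  have hd : f CoordGrp.GLn.det = g CoordGrp.GLn.det := by
    rw [CoordGrp.GLn.det_eq, AlgHom.map_det, AlgHom.map_det]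
    congr 1
    ext i j
    exact h i j
  calc f CoordGrp.GLn.Dinv = f CoordGrp.GLn.Dinv * (g CoordGrp.GLn.det * g CoordGrp.GLn.Dinv) := by
        rw [hg, mul_one]
    _ = g CoordGrp.GLn.Dinv := by rw [← mul_assoc, ← hd, hf, one_mul]

variable [HopfAlgebra k A] {n : ℕ} (m : Matrix (Fin n) (Fin n) A) (hm : IsMult k m)

/-- The homomorphism to the general linear group given by a multiplicative matrix. -/
noncomputable def glHom : CoordGrp.GLn n k →ₐc[k] A :=
  BialgHom.ofAlgHom
    (CoordGrp.GLn.pt n k m (antipodeMat k m).det (by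
      rw [← Matrix.det_mul, hm.mul_antipodeMat, Matrix.det_one]))
    (by
      refine algHom_ext' fun i j => ?_
      rw [AlgHom.comp_apply, CoordGrp.GLn.pt_X]
      exact (hm.counit i j).trans (CoordGrp.GLn.counit_X i j).symm)
    (by
      refine algHom_ext' fun i j => ?_
      rw [AlgHom.comp_apply, AlgHom.comp_apply, CoordGrp.GLn.pt_X]
      change Algebra.TensorProduct.map _ _ (CoalgebraStruct.comul (R := k)
        (CoordGrp.GLn.X i j : CoordGrp.GLn n k)) = CoalgebraStruct.comul (R := k) (m i j)
      rw [CoordGrp.GLn.comul_X, map_sum, hm.comul]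
      simp only [Algebra.TensorProduct.map_tmul, CoordGrp.GLn.pt_X])

@[simp] lemma glHom_X (i j : Fin n) : glHom m hm (CoordGrp.GLn.X i j) = m i j :=
  CoordGrp.GLn.pt_X m (antipodeMat k m).det
    (by rw [← Matrix.det_mul, hm.mul_antipodeMat, Matrix.det_one]) i j

end Hom

section Emb

variable {k : Type u} [Field k] {A : Type v} [CommRing A] [HopfAlgebra k A]

/-- In the regular comodule, basis vectors are combinations of the matrix entries. -/
lemma eq_sum_of_regular {ι : Type*} [Fintype ι] {v : ι → A} {m : Matrix ι ι A}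
    (h : ∀ j, CoalgebraStruct.comul (R := k) (v j) = ∑ i, v i ⊗ₜ[k] m i j) (j : ι) :
    v j = ∑ i, CoalgebraStruct.counit (R := k) (v i) • m i j := by
  have h1 := Coalgebra.rTensor_counit_comul (R := k) (v j)
  have h2 : Coalgebra.comul (R := k) (v j) = ∑ i, v i ⊗ₜ[k] m i j := h j
  rw [h2, map_sum] at h1
  have h3 := congrArg (TensorProduct.lid k A) h1
  rw [map_sum, lid_tmul, one_smul] at h3
  simp only [LinearMap.rTensor_tmul, lid_tmul] at h3
  exact h3.symm

theorem exists_surjective [Algebra.FiniteType k A] :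
    ∃ (n : ℕ) (π : CoordGrp.GLn n k →ₐc[k] A), Function.Surjective π := by
  obtain ⟨s, hs⟩ := Algebra.FiniteType.out (R := k) (A := A)
  obtain ⟨n, v, m, -, hsv, hm, hv⟩ := exists_isMult_of_finite (k := k) (A := A) (V := A)
    (s : Set A) s.finite_toSet
  refine ⟨n, glHom m hm, ?_⟩
  have h1 : (⊤ : Subalgebra k A) ≤ (glHom m hm : CoordGrp.GLn n k →ₐ[k] A).range := by
    rw [← hs, Algebra.adjoin_le_iff]
    intro x hx
    have h2 : Submodule.span k (Set.range v) ≤
        Subalgebra.toSubmodule (glHom m hm : CoordGrp.GLn n k →ₐ[k] A).range := by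
      rw [Submodule.span_le]
      rintro _ ⟨j, rfl⟩
      rw [SetLike.mem_coe, Subalgebra.mem_toSubmodule, eq_sum_of_regular hv j]
      refine Subalgebra.sum_mem _ fun i _ => Subalgebra.smul_mem _ ?_ _
      exact ⟨CoordGrp.GLn.X i j, glHom_X m hm i j⟩
    exact h2 (hsv hx)
  intro a
  exact h1 (Algebra.mem_top (R := k) (A := A) (x := a))

end Emb

end K191.GLEmb
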