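import Groth.Agent.HopfRep.K191.Reductive
import Mathlib.RingTheory.HopfAlgebra.TensorProduct
import Mathlib.LinearAlgebra.TensorProduct.Tower

/-!
# Base change of integrals, linear reductivity and field extensions
-/

set_option autoImplicit false

universe u

open TensorProduct HopfRep

namespace K191.BaseInt

open K191.Integral K191.Reductive

section Comul

variable {k : Type u} (K : Type u) {A : Type u} [CommRing k] [CommRing K] [Algebra k K] [CommRing A]
  [Bialgebra k A]

/-- The comultiplication of `1 ⊗ a` in `K ⊗ A`. -/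
lemma comul_one_tmul (a : A) :
    CoalgebraStruct.comul (R := K) ((1 : K) ⊗ₜ[k] a) =
      TensorProduct.AlgebraTensorModule.distribBaseChange k K A A
        (1 ⊗ₜ CoalgebraStruct.comul (R := k) a) := by
  rw [TensorProduct.comul_tmul]
  simp only [show CoalgebraStruct.comul (R := K) (1 : K) = 1 ⊗ₜ 1 from Bialgebra.comul_one]
  generalize CoalgebraStruct.comul (R := k) a = y
  induction y using TensorProduct.induction_on with
  | zero => simp
  | tmul r a => simp
  | add x y hx hy => rw [TensorProduct.tmul_add, TensorProduct.tmul_add, map_add, map_add, hx, hy]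

end Comul

section Field

variable {k K A : Type u} [Field k] [Field K] [Algebra k K] [CommRing A] [HopfAlgebra k A]

lemma isInt_of_one_tmul {β : K ⊗[k] A →ₗ[K] K} (h : ∀ a : A, β.rTensor (K ⊗[k] A)
    (CoalgebraStruct.comul (R := K) ((1 : K) ⊗ₜ[k] a)) = β (1 ⊗ₜ a) ⊗ₜ[K] 1) : IsInt β := by
  intro x
  induction x using TensorProduct.induction_on with
  | zero => simp
  | tmul c a =>
    have h1 : c ⊗ₜ[k] a = c • ((1 : K) ⊗ₜ[k] a) := by simp [TensorProduct.smul_tmul']
    rw [h1, map_smul, map_smul, map_smul, h, smul_tmul']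
  | add x y hx hy => rw [map_add, map_add, hx, hy, map_add, add_tmul]

/-- Base change of an integral. -/
theorem exists_isInt_baseChange {α : A →ₗ[k] k} (hα : IsInt α) (h1 : α 1 = 1) :
    ∃ β : K ⊗[k] A →ₗ[K] K, IsInt β ∧ β 1 = 1 := by
  let β : K ⊗[k] A →ₗ[K] K :=
    (TensorProduct.AlgebraTensorModule.rid k K K).toLinearMap ∘ₗ α.baseChange K
  have hβ : ∀ (c : K) (a : A), β (c ⊗ₜ a) = α a • c := by
    intro c a
    simp [β]
  refine ⟨β, isInt_of_one_tmul fun a => ?_, ?_⟩
  · have h2 : ∀ z : A ⊗[k] A, β.rTensor (K ⊗[k] A)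
        (TensorProduct.AlgebraTensorModule.distribBaseChange k K A A (1 ⊗ₜ z)) =
        1 ⊗ₜ[K] ((1 : K) ⊗ₜ[k] (TensorProduct.lid k A (α.rTensor A z))) := by
      intro z
      induction z using TensorProduct.induction_on with
      | zero => simp
      | tmul x y =>
        rw [TensorProduct.AlgebraTensorModule.distribBaseChange_tmul, LinearMap.rTensor_tmul, hβ,
          LinearMap.rTensor_tmul, lid_tmul, tmul_smul, smul_tmul']
        have h5 : (α x • (1 : K)) ⊗ₜ[k] y = (α x • (1 : K)) • ((1 : K) ⊗ₜ[k] y) := by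
          rw [smul_tmul', smul_eq_mul, mul_one]
        rw [h5, tmul_smul, smul_tmul', smul_eq_mul, mul_one]
      | add x y hx hy => rw [TensorProduct.tmul_add, map_add, map_add, hx, hy, map_add, map_add,
          tmul_add, tmul_add]
    rw [comul_one_tmul, h2, hα a, lid_tmul, hβ, tmul_smul, tmul_smul, smul_tmul',
      Algebra.TensorProduct.one_def]
  · rw [Algebra.TensorProduct.one_def, hβ, h1, one_smul]

/-- Descent of an integral. -/
theorem exists_isInt_descent {β : K ⊗[k] A →ₗ[K] K} (hβ : IsInt β) (h1 : β 1 = 1) :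
    ∃ α : A →ₗ[k] k, IsInt α ∧ α 1 = 1 := by
  obtain ⟨r, hr⟩ := (Algebra.linearMap k K).exists_leftInverse_of_injective
    (LinearMap.ker_eq_bot.2 (algebraMap k K).injective)
  have hr1 : r 1 = 1 := by
    have := LinearMap.congr_fun hr 1
    simpa using this
  let β' : A →ₗ[k] K := (β.restrictScalars k) ∘ₗ (TensorProduct.mk k K A 1)
  have hβ' : ∀ a, β' a = β (1 ⊗ₜ a) := fun a => rfl
  have h2 : ∀ z : A ⊗[k] A, TensorProduct.lid K (K ⊗[k] A) (β.rTensor (K ⊗[k] A)
      (TensorProduct.AlgebraTensorModule.distribBaseChange k K A A (1 ⊗ₜ z))) =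
      β'.rTensor A z := by
    intro z
    induction z using TensorProduct.induction_on with
    | zero => simp
    | tmul x y =>
      rw [TensorProduct.AlgebraTensorModule.distribBaseChange_tmul, LinearMap.rTensor_tmul,
        LinearMap.rTensor_tmul, lid_tmul, smul_tmul', smul_eq_mul, mul_one]
      rfl
    | add x y hx hy => rw [TensorProduct.tmul_add, map_add, map_add, map_add, hx, hy, map_add]
  have h3 : ∀ a, β'.rTensor A (CoalgebraStruct.comul (R := k) a) = β' a ⊗ₜ 1 := by
    intro a
    rw [← h2, ← comul_one_tmul, hβ, lid_tmul, Algebra.TensorProduct.one_def, smul_tmul',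
      smul_eq_mul, mul_one]
    rfl
  refine ⟨r ∘ₗ β', fun a => ?_, ?_⟩
  · rw [LinearMap.rTensor_comp, LinearMap.comp_apply, h3, LinearMap.rTensor_tmul]
    rfl
  · rw [LinearMap.comp_apply, hβ', ← Algebra.TensorProduct.one_def, h1, hr1]

theorem isLinearlyReductive_iff_baseChange :
    IsLinearlyReductive k A ↔ IsLinearlyReductive K (K ⊗[k] A) := by
  rw [isLinearlyReductive_iff_isInt, isLinearlyReductive_iff_isInt]
  constructor
  · rintro ⟨α, hα, h1⟩
    exact exists_isInt_baseChange hα h1
  · rintro ⟨β, hβ, h1⟩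
    exact exists_isInt_descent hβ h1

end Field

end K191.BaseInt
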