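import Groth.Agent.HopfRep.K191.Integral

/-!
# Linear reductivity and integrals

* `exists_isInt`: a linearly reductive Hopf algebra has an integral `α` with `α 1 = 1`;
* `matComod`: the comodule with given multiplicative matrix in a basis;
* `exists_isInt_of_lift`: the same if nonzero invariant forms on finite-dimensional comodules are detected by
  fixed vectors;
* `isLinearlyReductive_iff`.
-/

set_option autoImplicit false

universe u v w w'

open TensorProduct HopfRep

namespace K191.Reductive

open Groth.Agent.Books.ComodBasic Groth.Agent.Books.ComodHom Groth.Agent.Books.CoeffMat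
  Groth.Agent.Books.ComodInv K191.Integral

section Mat

variable {k : Type u} {A : Type v} [Field k] [AddCommGroup A] [Module k A] [Coalgebra k A]
variable {V : Type w} [AddCommGroup V] [Module k V]
variable {ι : Type w'} [Fintype ι] [DecidableEq ι]

/-- The coaction with a given matrix. -/
noncomputable def matCoact (b : Module.Basis ι k V) (n : Matrix ι ι A) : V →ₗ[k] V ⊗[k] A :=
  b.constr k fun j => ∑ i, b i ⊗ₜ[k] n i j

@[simp] lemma matCoact_basis (b : Module.Basis ι k V) (n : Matrix ι ι A) (j : ι) :
    matCoact b n (b j) = ∑ i, b i ⊗ₜ[k] n i j := by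
  rw [matCoact, Module.Basis.constr_basis]

/-- The comodule with a given multiplicative matrix. -/
@[reducible] noncomputable def matComod (b : Module.Basis ι k V) (n : Matrix ι ι A)
    (hn : IsMult k n) : Comod k A V where
  coact := matCoact b n
  coassoc := by
    refine b.ext fun j => ?_
    simp only [LinearMap.comp_apply, LinearEquiv.coe_coe, matCoact_basis, map_sum,
      LinearMap.rTensor_tmul, LinearMap.lTensor_tmul, sum_tmul, assoc_tmul, hn.comul, tmul_sum]
    exact Finset.sum_comm
  counit_comp := by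
    refine b.ext fun j => ?_
    simp only [LinearMap.comp_apply, matCoact_basis, map_sum, LinearMap.lTensor_tmul, hn.counit,
      LinearMap.flip_apply, mk_apply]
    rw [Finset.sum_eq_single j]
    · simp
    · intro i _ hij
      simp [hij]
    · intro h
      exact absurd (Finset.mem_univ j) h

end Mat

section Anti

variable {k : Type u} {A : Type v} [Field k] [CommRing A] [HopfAlgebra k A]
variable {ι : Type w'} [Fintype ι] [DecidableEq ι]

/-- The contragredient matrix. -/
lemma isMult_transpose {m : Matrix ι ι A} (hm : IsMult k m) :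
    IsMult k (antipodeMat k m).transpose where
  comul i j := by
    rw [Matrix.transpose_apply, antipodeMat, Matrix.map_apply, comul_antipode hm]
    rfl
  counit i j := by
    rw [Matrix.transpose_apply, antipodeMat, Matrix.map_apply]
    have h : Coalgebra.counit (R := k) (HopfAlgebra.antipode k (m j i)) =
      Coalgebra.counit (R := k) (m j i) := HopfAlgebra.counit_antipode _
    refine h.trans ((hm.counit j i).trans ?_)
    simp only [eq_comm]

end Anti

section Red

variable {k : Type u} {A : Type v} [Field k] [CommRing A] [HopfAlgebra k A]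

lemma fixed_eq {a : A} (ha : CoalgebraStruct.comul (R := k) a = a ⊗ₜ[k] (1 : A)) :
    a = CoalgebraStruct.counit (R := k) a • (1 : A) := by
  have h := Coalgebra.rTensor_counit_comul (R := k) a
  have ha' : Coalgebra.comul (R := k) a = a ⊗ₜ[k] (1 : A) := ha
  rw [ha', LinearMap.rTensor_tmul] at h
  have h2 := congrArg (TensorProduct.lid k A) h
  rw [lid_tmul, lid_tmul, one_smul] at h2
  exact h2.symm

/-- A linearly reductive Hopf algebra has a normalised integral. -/
theorem exists_isInt (hG : IsLinearlyReductive k A) : ∃ α : A →ₗ[k] k, IsInt α ∧ α 1 = 1 := by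
  obtain ⟨E, ⟨h1, h2, h3⟩, -⟩ := K688.Reynolds.existsUnique_reynolds (k := k) (A := A) (V := A) hG
  refine ⟨CoalgebraStruct.counit ∘ₗ E, ?_, ?_⟩
  · intro a
    have h4 : E a = CoalgebraStruct.counit (R := k) (E a) • (1 : A) :=
      fixed_eq (K688.Reynolds.apply_mem h2 h3 a)
    have h5 : CoalgebraStruct.comul (R := k) (E a) =
      E.rTensor A (CoalgebraStruct.comul (R := k) a) := h1 a
    rw [LinearMap.rTensor_comp, LinearMap.comp_apply, ← h5]
    have h6 : CoalgebraStruct.comul (R := k) (E a) = E a ⊗ₜ[k] (1 : A) :=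
      K688.Reynolds.apply_mem h2 h3 a
    rw [h6, LinearMap.rTensor_tmul, LinearMap.comp_apply]
  · have h4 : E 1 = 1 := by
      rw [h3]
      exact Bialgebra.comul_one
    rw [LinearMap.comp_apply, h4]
    exact Bialgebra.counit_one

/-- An invariant linear form on a comodule. -/
def InvForm {V : Type w} [AddCommGroup V] [Module k V] [Comod k A V] (f : V →ₗ[k] k) : Prop :=
  ∀ v : V, f.rTensor A (Comod.coact (k := k) (A := A) v) = f v ⊗ₜ[k] (1 : A)

/-- The lifting condition. -/
def Lift (k : Type u) (A : Type v) [Field k] [CommRing A] [HopfAlgebra k A] : Prop :=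
  ∀ (V : Type v) [AddCommGroup V] [Module k V] [Comod k A V], Module.Finite k V →
    ∀ f : V →ₗ[k] k, InvForm (A := A) f → f ≠ 0 → ∃ v ∈ fixedPts k A V, f v ≠ 0

section Coord

variable {V : Type w} [AddCommGroup V] [Module k V]
variable {ι : Type w'} [Fintype ι] [DecidableEq ι]

lemma coord_sum (b : Module.Basis ι k V) (x : ι → A) (i : ι) :
    TensorProduct.lid k A ((b.coord i).rTensor A (∑ j, b j ⊗ₜ[k] x j)) = x i := by
  rw [map_sum, map_sum, Finset.sum_eq_single i]
  · simp
  · intro j _ hj
    simp [hj.symm, Finsupp.single_apply, hj]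
  · intro h
    exact absurd (Finset.mem_univ i) h

/-- Fixed vectors in coordinates. -/
lemma mem_fixedPts_iff_coord [Comod k A V] (b : Module.Basis ι k V) {m : Matrix ι ι A}
    (hb : ∀ j, Comod.coact (k := k) (A := A) (b j) = ∑ i, b i ⊗ₜ[k] m i j) (c : ι → k) :
    (∑ j, c j • b j) ∈ fixedPts k A V ↔ ∀ i, ∑ j, c j • m i j = c i • (1 : A) := by
  have h1 : Comod.coact (k := k) (A := A) (∑ j, c j • b j) = ∑ i, b i ⊗ₜ[k] (∑ j, c j • m i j) := by
    rw [map_sum]
    simp only [map_smul, hb, Finset.smul_sum, tmul_sum, tmul_smul]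
    exact Finset.sum_comm
  have h2 : (∑ j, c j • b j) ⊗ₜ[k] (1 : A) = ∑ i, b i ⊗ₜ[k] (c i • (1 : A)) := by
    simp only [sum_tmul, smul_tmul]
  rw [mem_fixedPts_iff, h1, h2]
  constructor
  · intro h i
    have h3 := congrArg (fun y => TensorProduct.lid k A ((b.coord i).rTensor A y)) h
    simpa only [coord_sum] using h3
  · intro h
    simp only [h]

/-- Invariant forms in coordinates. -/
lemma invForm_iff_coord [Comod k A V] (b : Module.Basis ι k V) {m : Matrix ι ι A}
    (hb : ∀ j, Comod.coact (k := k) (A := A) (b j) = ∑ i, b i ⊗ₜ[k] m i j) (f : V →ₗ[k] k) :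
    InvForm (A := A) f ↔ ∀ j, ∑ i, f (b i) • m i j = f (b j) • (1 : A) := by
  have h1 : ∀ j, TensorProduct.lid k A (f.rTensor A (Comod.coact (k := k) (A := A) (b j))) =
      ∑ i, f (b i) • m i j := by
    intro j
    rw [hb, map_sum, map_sum]
    simp
  have h2 : ∀ j, TensorProduct.lid k A (f (b j) ⊗ₜ[k] (1 : A)) = f (b j) • (1 : A) := by
    intro j
    simp
  constructor
  · intro h j
    rw [← h1, h (b j), h2]
  · intro h v
    have h3 : f.rTensor A ∘ₗ Comod.coact (k := k) (A := A) = (TensorProduct.mk k k A).flip 1 ∘ₗ f := by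
      refine b.ext fun j => (TensorProduct.lid k A).injective ?_
      rw [LinearMap.comp_apply, h1, h j, LinearMap.comp_apply, LinearMap.flip_apply, mk_apply, h2]
    exact LinearMap.congr_fun h3 v

end Coord

/-- Restriction of an invariant form to a subcomodule. -/
lemma InvForm.comp {V : Type w} [AddCommGroup V] [Module k V] [Comod k A V]
    {W : Type w'} [AddCommGroup W] [Module k W] [Comod k A W] {f : V →ₗ[k] k}
    (hf : InvForm (A := A) f) {g : W →ₗ[k] V} (hg : IsComodHom k A g) : InvForm (A := A) (f ∘ₗ g) := by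
  intro w
  rw [LinearMap.rTensor_comp, LinearMap.comp_apply, ← hg w, hf, LinearMap.comp_apply]

/-- In a finite-dimensional comodule, a nonzero fixed vector is detected by an invariant form. -/
lemma exists_form (hL : Lift k A) (V : Type v) [AddCommGroup V] [Module k V] [Comod k A V]
    [Module.Finite k V] {x : V} (hx : x ∈ fixedPts k A V) (hx0 : x ≠ 0) :
    ∃ f : V →ₗ[k] k, InvForm (A := A) f ∧ f x = 1 := by
  classical
  let b := Module.finBasis k V
  let m := coeffMat A b
  have hb : ∀ j, Comod.coact (k := k) (A := A) (b j) = ∑ i, b i ⊗ₜ[k] m i j := coact_basis A b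
  have hm : IsMult k m := coeffMat_isMult A b
  set c : Fin _ → k := fun j => b.repr x j with hc
  have hx1 : ∑ j, c j • b j = x := b.sum_repr x
  have hx2 : ∀ i, ∑ j, c j • m i j = c i • (1 : A) := by
    rw [← mem_fixedPts_iff_coord b hb, hx1]
    exact hx
  have hn := isMult_transpose hm
  -- the form on the dual
  let π : V →ₗ[k] k := b.constr k c
  have hπ : ∀ j, π (b j) = c j := fun j => by rw [Module.Basis.constr_basis]
  have hinv1 : ∀ i j, ∑ l, HopfAlgebraStruct.antipode k (m i l) * m l j = if i = j then 1 else 0 := by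
    intro i j
    have h := congrFun (congrFun hm.antipodeMat_mul i) j
    rw [Matrix.mul_apply, Matrix.one_apply] at h
    exact h
  obtain ⟨y, hy, hy0⟩ : ∃ y ∈ @fixedPts k A _ _ _ V _ _ (matComod b _ hn), π y ≠ 0 := by
    letI : Comod k A V := matComod b _ hn
    have hb' : ∀ j, Comod.coact (k := k) (A := A) (b j) = ∑ i, b i ⊗ₜ[k]
        (antipodeMat k m).transpose i j := fun j => matCoact_basis b _ j
    refine hL V inferInstance π ?_ ?_
    · rw [invForm_iff_coord b hb']
      intro j
      simp only [hπ, Matrix.transpose_apply, antipodeMat, Matrix.map_apply]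
      calc ∑ i, c i • HopfAlgebraStruct.antipode k (m j i)
          = ∑ i, HopfAlgebraStruct.antipode k (m j i) * (c i • (1 : A)) := by
            simp only [mul_smul_comm, mul_one]
        _ = ∑ i, ∑ l, c l • (HopfAlgebraStruct.antipode k (m j i) * m i l) := by
            refine Finset.sum_congr rfl fun i _ => ?_
            rw [← hx2, Finset.mul_sum]
            simp only [mul_smul_comm]
        _ = ∑ l, c l • (if j = l then (1 : A) else 0) := by
            rw [Finset.sum_comm]
            simp only [← Finset.smul_sum, hinv1]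
        _ = c j • (1 : A) := by simp
    · intro h0
      apply hx0
      rw [← hx1]
      refine Finset.sum_eq_zero fun j _ => ?_
      rw [← hπ j, h0, LinearMap.zero_apply, zero_smul]
  set d : Fin _ → k := fun j => b.repr y j with hd
  have hy1 : ∑ j, d j • b j = y := b.sum_repr y
  have hy2 : ∀ i, ∑ j, d j • HopfAlgebraStruct.antipode k (m j i) = d i • (1 : A) := by
    letI : Comod k A V := matComod b _ hn
    have hb' : ∀ j, Comod.coact (k := k) (A := A) (b j) = ∑ i, b i ⊗ₜ[k]
        (antipodeMat k m).transpose i j := fun j => matCoact_basis b _ j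
    have h := (mem_fixedPts_iff_coord b hb' d).1 (by rw [hy1]; exact hy)
    exact h
  let f : V →ₗ[k] k := b.constr k d
  have hf : ∀ j, f (b j) = d j := fun j => by rw [Module.Basis.constr_basis]
  have hfi : InvForm (A := A) f := by
    rw [invForm_iff_coord b hb]
    intro j
    simp only [hf]
    calc ∑ i, d i • m i j = ∑ i, (d i • (1 : A)) * m i j := by simp only [smul_mul_assoc, one_mul]
      _ = ∑ i, ∑ l, d l • (HopfAlgebraStruct.antipode k (m l i) * m i j) := by
          refine Finset.sum_congr rfl fun i _ => ?_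
          rw [← hy2, Finset.sum_mul]
          simp only [smul_mul_assoc]
      _ = ∑ l, d l • (if l = j then (1 : A) else 0) := by
          rw [Finset.sum_comm]
          simp only [← Finset.smul_sum, hinv1]
      _ = d j • (1 : A) := by simp
  have hfx : f x = π y := by
    rw [← hx1, ← hy1, map_sum, map_sum]
    refine Finset.sum_congr rfl fun j _ => ?_
    rw [map_smul, map_smul, hf, hπ, smul_eq_mul, smul_eq_mul, mul_comm]
  refine ⟨(π y)⁻¹ • f, ?_, ?_⟩
  · intro v
    rw [LinearMap.rTensor_smul, LinearMap.smul_apply, hfi v, LinearMap.smul_apply, smul_tmul']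
  · rw [LinearMap.smul_apply, hfx, smul_eq_mul, inv_mul_cancel₀ hy0]

/-- Finite-dimensional version of the integral. -/
def Part (F : Submodule k A) (f : A →ₗ[k] k) : Prop :=
  (∀ a ∈ F, f.rTensor A (CoalgebraStruct.comul (R := k) a) = f a ⊗ₜ[k] (1 : A)) ∧ f 1 = 1

lemma exists_part (hL : Lift k A) (F : Submodule k A) (hF : IsSubcomod (k := k) (A := A) F)
    [Module.Finite k F] (h1 : (1 : A) ∈ F) : ∃ f : A →ₗ[k] k, Part F f := by
  letI := subComod F hF
  have hs : IsComodHom k A F.subtype := isComodHom_subtype F hF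
  have hone : (⟨1, h1⟩ : F) ∈ fixedPts k A F := by
    have hinj := rTensor_subtype_injective (A := A) F
    refine hinj ?_
    rw [LinearMap.rTensor_tmul, ← hs]
    exact Bialgebra.comul_one
  obtain ⟨f, hf, hf1⟩ := exists_form hL F hone (fun h => by
    have h2 : (1 : A) = 0 := congrArg Subtype.val h
    have h3 := congrArg (CoalgebraStruct.counit (R := k)) h2
    rw [map_zero, show CoalgebraStruct.counit (R := k) (1 : A) = 1 from Bialgebra.counit_one] at h3
    exact one_ne_zero h3)
  obtain ⟨r, hr⟩ := F.subtype.exists_leftInverse_of_injective (Submodule.ker_subtype F)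
  refine ⟨f ∘ₗ r, ?_, ?_⟩
  · intro a ha
    have h2 : CoalgebraStruct.comul (R := k) a =
      F.subtype.rTensor A (Comod.coact (k := k) (A := A) (⟨a, ha⟩ : F)) := hs ⟨a, ha⟩
    rw [h2, ← LinearMap.comp_apply, ← LinearMap.rTensor_comp, LinearMap.comp_assoc, hr,
      LinearMap.comp_id, hf]
    have h3 : r a = ⟨a, ha⟩ := LinearMap.congr_fun hr ⟨a, ha⟩
    rw [LinearMap.comp_apply, h3]
  · have h3 : r 1 = ⟨1, h1⟩ := LinearMap.congr_fun hr ⟨1, h1⟩
    rw [LinearMap.comp_apply, h3, hf1]

lemma part_unique (hL : Lift k A) {F F' : Submodule k A} (hF : IsSubcomod (k := k) (A := A) F)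
    (hF' : IsSubcomod (k := k) (A := A) F') [Module.Finite k F] {f f' : A →ₗ[k] k}
    (hf : Part F f) (hf' : Part F' f') {a : A} (ha : a ∈ F) (ha' : a ∈ F') : f a = f' a := by
  by_contra hne
  have hG : IsSubcomod (k := k) (A := A) (F ⊓ F') := IsSubcomod.inf hF hF'
  letI := subComod (F ⊓ F') hG
  have hs : IsComodHom k A (F ⊓ F').subtype := isComodHom_subtype _ hG
  have hfin : Module.Finite k (F ⊓ F' : Submodule k A) :=
    Submodule.finiteDimensional_of_le (S₂ := F) inf_le_left
  have hinv : InvForm (A := A) ((f - f') ∘ₗ (F ⊓ F').subtype) := by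
    intro x
    rw [LinearMap.rTensor_comp, LinearMap.comp_apply, ← hs x, LinearMap.rTensor_sub,
      LinearMap.sub_apply, LinearMap.comp_apply, LinearMap.sub_apply, sub_tmul]
    exact congrArg₂ _ (hf.1 x x.2.1) (hf'.1 x x.2.2)
  obtain ⟨y, hy, hy0⟩ := hL _ hfin _ hinv (fun h => by
    have h2 := LinearMap.congr_fun h (⟨a, ha, ha'⟩ : (F ⊓ F' : Submodule k A))
    rw [LinearMap.comp_apply, LinearMap.sub_apply, Submodule.subtype_apply, LinearMap.zero_apply,
      sub_eq_zero] at h2
    exact hne h2)
  have hy' : CoalgebraStruct.comul (R := k) (y : A) = (y : A) ⊗ₜ[k] (1 : A) :=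
    IsComodHom.map_mem_fixedPts hs hy
  apply hy0
  rw [LinearMap.comp_apply, Submodule.subtype_apply, fixed_eq hy', map_smul, LinearMap.sub_apply,
    hf.2, hf'.2, sub_self, smul_zero]

/-- The lifting condition gives a normalised integral. -/
theorem exists_isInt_of_lift (hL : Lift k A) : ∃ α : A →ₗ[k] k, IsInt α ∧ α 1 = 1 := by
  have hcov : ∀ a b : A, ∃ F : Submodule k A, IsSubcomod (k := k) (A := A) F ∧ Module.Finite k F ∧
      (1 : A) ∈ F ∧ a ∈ F ∧ b ∈ F := by
    intro a b
    haveI : Module.Finite k (Submodule.span k {1, a, b} : Submodule k A) :=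
      Module.Finite.span_of_finite k (by simp)
    obtain ⟨F, hF, hfin, hle⟩ := exists_finite_isSubcomod_ge (k := k) (A := A)
      (Submodule.span k {1, a, b})
    exact ⟨F, hF, hfin, hle (Submodule.subset_span (by simp)),
      hle (Submodule.subset_span (by simp)), hle (Submodule.subset_span (by simp))⟩
  have hex : ∀ a : A, ∃ t : k, ∀ (F : Submodule k A) (f : A →ₗ[k] k),
      IsSubcomod (k := k) (A := A) F → Module.Finite k F → a ∈ F → Part F f → f a = t := by
    intro a
    obtain ⟨F, hF, hfin, h1, ha, -⟩ := hcov a a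
    obtain ⟨f, hf⟩ := exists_part hL F hF h1
    exact ⟨f a, fun F' f' hF' hfin' ha' hf' => part_unique hL hF' hF hf' hf ha' ha⟩
  choose t ht using hex
  have key : ∀ a b : A, ∃ (F : Submodule k A) (f : A →ₗ[k] k), IsSubcomod (k := k) (A := A) F ∧
      a ∈ F ∧ b ∈ F ∧ (1 : A) ∈ F ∧ Part F f ∧ ∀ c ∈ F, t c = f c := by
    intro a b
    obtain ⟨F, hF, hfin, h1, ha, hb⟩ := hcov a b
    obtain ⟨f, hf⟩ := exists_part hL F hF h1
    exact ⟨F, f, hF, ha, hb, h1, hf, fun c hc => (ht c F f hF hfin hc hf).symm⟩
  let α : A →ₗ[k] k :=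
    { toFun := t
      map_add' := by
        intro a b
        obtain ⟨F, f, -, ha, hb, -, -, h⟩ := key a b
        rw [h _ (F.add_mem ha hb), h _ ha, h _ hb, map_add]
      map_smul' := by
        intro c a
        obtain ⟨F, f, -, ha, -, -, -, h⟩ := key a a
        rw [h _ (F.smul_mem c ha), h _ ha, map_smul, RingHom.id_apply] }
  refine ⟨α, ?_, ?_⟩
  · intro a
    obtain ⟨F, f, hF, ha, -, -, hf, h⟩ := key a a
    obtain ⟨y, hy⟩ := hF a ha
    have hy' : F.subtype.rTensor A y = CoalgebraStruct.comul (R := k) a := hy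
    have h2 : α ∘ₗ F.subtype = f ∘ₗ F.subtype := LinearMap.ext fun x => h x x.2
    rw [← hy', ← LinearMap.comp_apply, ← LinearMap.rTensor_comp, h2, LinearMap.rTensor_comp,
      LinearMap.comp_apply, hy', hf.1 a ha]
    exact congrArg (· ⊗ₜ[k] (1 : A)) (h a ha).symm
  · obtain ⟨F, f, -, -, -, h1, hf, h⟩ := key 1 1
    exact (h 1 h1).trans hf.2

/-- Linear reductivity is equivalent to the lifting condition. -/
theorem isLinearlyReductive_of_isInt (h : ∃ α : A →ₗ[k] k, IsInt α ∧ α 1 = 1) :
    IsLinearlyReductive k A := by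
  obtain ⟨α, hα, h1⟩ := h
  intro V _ _ _ _
  exact semisimple_of_isInt hα h1

theorem isLinearlyReductive_iff_isInt :
    IsLinearlyReductive k A ↔ ∃ α : A →ₗ[k] k, IsInt α ∧ α 1 = 1 :=
  ⟨exists_isInt, isLinearlyReductive_of_isInt⟩

theorem isLinearlyReductive_iff_lift : IsLinearlyReductive k A ↔ Lift k A := by
  constructor
  · intro hG V _ _ _ _ f hf hf0
    obtain ⟨x, hx⟩ : ∃ x, f x ≠ 0 := by
      by_contra h
      push Not at h
      exact hf0 (LinearMap.ext h)
    let _ : Comod k A k := Comod.trivial k A k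
    have hf' : IsComodHom k A f := fun v => (hf v).symm
    obtain ⟨v, hv, hv'⟩ := exists_fixed_lift hG hf' (w := f x) (show _ = _ from rfl) (v := x) rfl
    exact ⟨v, hv, by rw [hv']; exact hx⟩
  · intro hL
    exact isLinearlyReductive_of_isInt (exists_isInt_of_lift hL)

end Red

end K191.Reductive
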