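import Groth.Agent.HopfRep.K191.ExactSeq

/-!
# Left invariant integrals, Reynolds operators and extensions

* `IsLInt`: left invariant integrals, `isLInt_comp_antipode`, `isInt_comp_antipode`;
* `reyn ψ β`: the operator `a ↦ a₁ β(ψ a₂)` on `A`;
* `isLinearlyReductive_of_ext`: extensions of linearly reductive groups.
-/

set_option autoImplicit false

universe u

open TensorProduct HopfRep WithConv

namespace K191.LInt

open Groth.Agent.Books.ComodBasic Groth.Agent.Books.ComodHom Groth.Agent.Books.CoeffMat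
  Groth.Agent.Books.ComodInv K191.Integral K191.Reductive K191.Galois K191.ExactSeq
  Groth.Agent.Books.BorelAlg

section LInt

variable {k : Type u} [Field k] {A : Type u} [CommRing A] [HopfAlgebra k A]

/-- Left invariant integrals. -/
def IsLInt (β : A →ₗ[k] k) : Prop :=
  ∀ a : A, β.lTensor A (CoalgebraStruct.comul (R := k) a) = (1 : A) ⊗ₜ[k] β a

lemma isLInt_comp_antipode {β : A →ₗ[k] k} (hβ : IsInt β) :
    IsLInt (β ∘ₗ HopfAlgebraStruct.antipode k) := by
  intro a
  have h := hβ (HopfAlgebraStruct.antipode k a)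
  rw [Groth.Agent.Books.BorelAlg.comul_antipode] at h
  have h2 := congrArg (fun z => (HopfAlgebraStruct.antipode (R := k) (A := A)).rTensor k
    (TensorProduct.comm k k A z)) h
  simp only [comm_tmul, LinearMap.rTensor_tmul] at h2
  have h3 : (HopfAlgebraStruct.antipode (R := k) (A := A)) 1 = 1 := HopfAlgebra.antipode_one
  rw [h3] at h2
  rw [LinearMap.comp_apply, ← h2]
  generalize CoalgebraStruct.comul (R := k) a = z
  induction z with
  | zero => simp
  | add x y hx hy => simp only [map_add, hx, hy]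
  | tmul x y =>
    rw [map_tmul, comm_tmul, LinearMap.rTensor_tmul, comm_tmul, LinearMap.rTensor_tmul,
      LinearMap.lTensor_tmul, antipode_antipode]
    rfl

lemma isInt_comp_antipode {β : A →ₗ[k] k} (hβ : IsLInt β) :
    IsInt (β ∘ₗ HopfAlgebraStruct.antipode k) := by
  intro a
  have h := hβ (HopfAlgebraStruct.antipode k a)
  rw [Groth.Agent.Books.BorelAlg.comul_antipode] at h
  have h2 := congrArg (fun z => (HopfAlgebraStruct.antipode (R := k) (A := A)).lTensor k
    (TensorProduct.comm k A k z)) h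
  simp only [comm_tmul, LinearMap.lTensor_tmul] at h2
  have h3 : (HopfAlgebraStruct.antipode (R := k) (A := A)) 1 = 1 := HopfAlgebra.antipode_one
  rw [h3] at h2
  rw [LinearMap.comp_apply, ← h2]
  generalize CoalgebraStruct.comul (R := k) a = z
  induction z with
  | zero => simp
  | add x y hx hy => simp only [map_add, hx, hy]
  | tmul x y =>
    rw [map_tmul, comm_tmul, LinearMap.lTensor_tmul, comm_tmul, LinearMap.lTensor_tmul,
      LinearMap.rTensor_tmul, antipode_antipode]
    rfl

/-- Linear reductivity gives a normalised left invariant integral. -/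
lemma exists_isLInt (hG : IsLinearlyReductive k A) : ∃ β : A →ₗ[k] k, IsLInt β ∧ β 1 = 1 := by
  obtain ⟨α, hα, h1⟩ := exists_isInt hG
  refine ⟨_, isLInt_comp_antipode hα, ?_⟩
  rw [LinearMap.comp_apply, show (HopfAlgebraStruct.antipode (R := k) (A := A)) 1 = 1 from
    HopfAlgebra.antipode_one, h1]

lemma isLinearlyReductive_of_isLInt {β : A →ₗ[k] k} (hβ : IsLInt β) (h1 : β 1 = 1) :
    IsLinearlyReductive k A := by
  refine isLinearlyReductive_of_isInt ⟨_, isInt_comp_antipode hβ, ?_⟩
  rw [LinearMap.comp_apply, show (HopfAlgebraStruct.antipode (R := k) (A := A)) 1 = 1 from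
    HopfAlgebra.antipode_one, h1]

/-- `a ↦ a₁ b(a₂)`. -/
noncomputable def rconv (b : A →ₗ[k] k) : A →ₗ[k] A :=
  (TensorProduct.rid k A).toLinearMap ∘ₗ b.lTensor A ∘ₗ CoalgebraStruct.comul (R := k)

lemma rconv_apply (b : A →ₗ[k] k) (a : A) :
    rconv b a = TensorProduct.rid k A (b.lTensor A (CoalgebraStruct.comul (R := k) a)) := rfl

lemma comul_rconv (b : A →ₗ[k] k) (a : A) :
    CoalgebraStruct.comul (R := k) (rconv b a) =
      (rconv b).lTensor A (CoalgebraStruct.comul (R := k) a) := by
  have h1 := Coalgebra.coassoc_apply (R := k) a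
  have h2 : ∀ z : A ⊗[k] A, ((TensorProduct.rid k A).toLinearMap ∘ₗ b.lTensor A).lTensor A
      (TensorProduct.assoc k A A A ((CoalgebraStruct.comul (R := k) (A := A)).rTensor A z)) =
      CoalgebraStruct.comul (R := k) (TensorProduct.rid k A (b.lTensor A z)) := by
    intro z
    induction z with
    | zero => simp
    | add x y hx hy => simp only [map_add, hx, hy]
    | tmul x y =>
      rw [LinearMap.lTensor_tmul, rid_tmul, LinearMap.rTensor_tmul, map_smul]
      generalize CoalgebraStruct.comul (R := k) x = w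
      induction w with
      | zero => simp
      | add w w' hw hw' => simp only [map_add, add_tmul, hw, hw', smul_add]
      | tmul p q =>
        rw [assoc_tmul, LinearMap.lTensor_tmul, LinearMap.comp_apply, LinearMap.lTensor_tmul,
          LinearEquiv.coe_coe, rid_tmul, tmul_smul]
  have h3 : (rconv b).lTensor A (CoalgebraStruct.comul (R := k) a) =
      ((TensorProduct.rid k A).toLinearMap ∘ₗ b.lTensor A).lTensor A
        ((CoalgebraStruct.comul (R := k) (A := A)).lTensor A (CoalgebraStruct.comul (R := k) a)) := by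
    rw [← LinearMap.comp_apply (((TensorProduct.rid k A).toLinearMap ∘ₗ b.lTensor A).lTensor A),
      ← LinearMap.lTensor_comp]
    rfl
  rw [h3, show (CoalgebraStruct.comul (R := k) (A := A)).lTensor A (CoalgebraStruct.comul (R := k) a) =
    TensorProduct.assoc k A A A ((CoalgebraStruct.comul (R := k) (A := A)).rTensor A
      (CoalgebraStruct.comul (R := k) a)) from h1.symm, h2, rconv_apply]

end LInt

section Reyn

variable {k : Type u} [Field k] {A C : Type u} [CommRing A] [HopfAlgebra k A]
  [CommRing C] [HopfAlgebra k C] (ψ : A →ₐc[k] C)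

/-- The Reynolds operator `a ↦ a₁ β(ψ a₂)`. -/
noncomputable def reyn (β : C →ₗ[k] k) : A →ₗ[k] A := rconv (β ∘ₗ (ψ : A →ₐ[k] C).toLinearMap)

lemma reyn_apply (β : C →ₗ[k] k) (a : A) :
    reyn ψ β a = TensorProduct.rid k A (β.lTensor A (rho ψ a)) := by
  rw [reyn, rconv_apply, rho_apply, ← LinearMap.comp_apply (β.lTensor A), ← LinearMap.lTensor_comp]

lemma rho_reyn {β : C →ₗ[k] k} (hβ : IsLInt β) (a : A) :
    rho ψ (reyn ψ β a) = reyn ψ β a ⊗ₜ[k] (1 : C) := by
  have h1 : ∀ y : A ⊗[k] C, rho ψ (TensorProduct.rid k A (β.lTensor A y)) =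
      TensorProduct.rid k (A ⊗[k] C) (β.lTensor (A ⊗[k] C) ((rho ψ).toLinearMap.rTensor C y)) := by
    intro y
    induction y with
    | zero => simp
    | add x y hx hy => simp only [map_add, hx, hy]
    | tmul x c =>
      rw [LinearMap.lTensor_tmul, rid_tmul, LinearMap.rTensor_tmul, LinearMap.lTensor_tmul, rid_tmul,
        map_smul, AlgHom.toLinearMap_apply]
  have h2 : ∀ w : A ⊗[k] C, TensorProduct.rid k (A ⊗[k] C) (β.lTensor (A ⊗[k] C)
      ((TensorProduct.assoc k A C C).symm ((CoalgebraStruct.comul (R := k) (A := C)).lTensor A w))) =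
      (TensorProduct.rid k A (β.lTensor A w)) ⊗ₜ[k] (1 : C) := by
    intro w
    induction w with
    | zero => simp
    | add x y hx hy => simp only [map_add, hx, hy, add_tmul]
    | tmul x c =>
      have h3 : ∀ v : C ⊗[k] C, TensorProduct.rid k (A ⊗[k] C) (β.lTensor (A ⊗[k] C)
          ((TensorProduct.assoc k A C C).symm (x ⊗ₜ[k] v))) =
          x ⊗ₜ[k] TensorProduct.rid k C (β.lTensor C v) := by
        intro v
        induction v with
        | zero => simp
        | add v v' hv hv' => simp only [map_add, tmul_add, hv, hv']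
        | tmul p q =>
          rw [assoc_symm_tmul, LinearMap.lTensor_tmul, rid_tmul, LinearMap.lTensor_tmul, rid_tmul,
            tmul_smul]
      rw [LinearMap.lTensor_tmul, h3, hβ, rid_tmul, LinearMap.lTensor_tmul, rid_tmul, tmul_smul,
        smul_tmul']
  rw [reyn_apply, h1]
  have h4 : (rho ψ).toLinearMap.rTensor C (rho ψ a) = (TensorProduct.assoc k A C C).symm
      ((CoalgebraStruct.comul (R := k) (A := C)).lTensor A (rho ψ a)) := by
    rw [← rho_coassoc, LinearEquiv.symm_apply_apply]
  rw [h4, h2]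

lemma reyn_of_fixed {β : C →ₗ[k] k} (h1 : β 1 = 1) {a : A} (ha : rho ψ a = a ⊗ₜ[k] (1 : C)) :
    reyn ψ β a = a := by
  rw [reyn_apply, ha, LinearMap.lTensor_tmul, rid_tmul, h1, one_smul]

lemma reyn_one {β : C →ₗ[k] k} (h1 : β 1 = 1) : reyn ψ β 1 = 1 :=
  reyn_of_fixed ψ h1 (map_one _)

lemma reyn_mul (β : C →ₗ[k] k) {b : A} (hb : rho ψ b = b ⊗ₜ[k] (1 : C)) (a : A) :
    reyn ψ β (b * a) = b * reyn ψ β a := by
  rw [reyn_apply, reyn_apply, map_mul, hb]
  generalize rho ψ a = y
  induction y with
  | zero => simp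
  | add x y hx hy => simp only [map_add, mul_add, hx, hy]
  | tmul x c =>
    rw [Algebra.TensorProduct.tmul_mul_tmul, one_mul, LinearMap.lTensor_tmul, LinearMap.lTensor_tmul,
      rid_tmul, rid_tmul, mul_smul_comm]

end Reyn

section Ext

variable {k : Type u} [Field k] {A C B : Type u} [CommRing A] [HopfAlgebra k A]
  [CommRing C] [HopfAlgebra k C] [CommRing B] [HopfAlgebra k B] [Algebra B A] [IsScalarTower k B A]
  {ψ : A →ₐc[k] C} {φ : B →ₐc[k] A}

/-- **Extensions of linearly reductive groups.** -/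
theorem isLinearlyReductive_of_ext [Module.FaithfullyFlat B A] (hφi : Function.Injective φ)
    (hφ : ∀ b, φ b = algebraMap B A b) (h : Coinv ψ B) (hi : Function.Injective (can h))
    (hC : IsLinearlyReductive k C) (hB : IsLinearlyReductive k B) : IsLinearlyReductive k A := by
  obtain ⟨β, hβ, hβ1⟩ := exists_isLInt hC
  obtain ⟨γ, hγ, hγ1⟩ := exists_isLInt hB
  have hex : ∀ a, ∃ b : B, φ b = reyn ψ β a := by
    intro a
    obtain ⟨b, hb⟩ := exists_algebraMap_eq h hi (rho_reyn ψ hβ a)
    exact ⟨b, by rw [hφ, hb]⟩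
  choose t ht using hex
  let e : A →ₗ[k] B :=
    { toFun := t
      map_add' := fun x y => hφi (by rw [map_add, ht, ht, ht, map_add])
      map_smul' := fun c x => hφi (by rw [map_smul, ht, ht, map_smul, RingHom.id_apply]) }
  have he : ∀ a, φ (e a) = reyn ψ β a := ht
  have he1 : e 1 = 1 := hφi (by rw [he, reyn_one ψ hβ1, map_one])
  refine isLinearlyReductive_of_isLInt (β := γ ∘ₗ e) ?_ ?_
  · intro a
    -- `(φ ⊗ id) Δ(e a) = a₁ ⊗ e(a₂)`
    have h1 : (φ : B →ₐ[k] A).toLinearMap.rTensor B (CoalgebraStruct.comul (R := k) (e a)) =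
        e.lTensor A (CoalgebraStruct.comul (R := k) a) := by
      have hinj : Function.Injective ((φ : B →ₐ[k] A).toLinearMap.lTensor A) :=
        Module.Flat.lTensor_preserves_injective_linearMap _ hφi
      apply hinj
      have h2 : (φ : B →ₐ[k] A).toLinearMap.lTensor A ((φ : B →ₐ[k] A).toLinearMap.rTensor B
          (CoalgebraStruct.comul (R := k) (e a))) = CoalgebraStruct.comul (R := k) (φ (e a)) := by
        rw [map_map_comul, ← LinearMap.comp_apply, LinearMap.lTensor_comp_rTensor]
      have h3 : (φ : B →ₐ[k] A).toLinearMap ∘ₗ e = reyn ψ β := LinearMap.ext he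
      rw [h2, he, ← LinearMap.comp_apply ((φ : B →ₐ[k] A).toLinearMap.lTensor A),
        ← LinearMap.lTensor_comp, h3, reyn, comul_rconv]
    rw [LinearMap.lTensor_comp, LinearMap.comp_apply, ← h1, ← LinearMap.comp_apply,
      LinearMap.lTensor_comp_rTensor, ← LinearMap.rTensor_comp_lTensor, LinearMap.comp_apply, hγ,
      LinearMap.rTensor_tmul, AlgHom.toLinearMap_apply, map_one]
    rfl
  · rw [LinearMap.comp_apply, he1, hγ1]

end Ext

end K191.LInt
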