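import Groth.Agent.HopfRep.K191.SimpleSub
import Groth.Agent.HopfRep.K191.BaseInt
import Mathlib.RingTheory.DiscreteValuationRing.Basic
import Mathlib.RingTheory.LocalRing.ResidueField.Basic
import Mathlib.LinearAlgebra.FreeModule.PID
import Mathlib.LinearAlgebra.TensorProduct.Finiteness
import Mathlib.RingTheory.Flat.TorsionFree

/-!
# Specialisation of subcomodules over a discrete valuation ring

`lat F` is the lattice `{h ∈ H | 1 ⊗ h ∈ F}` of a subspace `F` of the generic fibre `K ⊗ H`, `red F` its image in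
the special fibre. `exists_step`: a simple subcomodule `S` of the special fibre has a jump
`S ⊓ red F' = ⊥`, `S ≤ red (F' ⊔ K v)`.
-/

set_option autoImplicit false

universe u

open TensorProduct HopfRep

namespace K191.Dvr

open Groth.Agent.Books.ComodBasic Groth.Agent.Books.ComodHom K191.SimpleSub

section Lattice

variable {A : Type u} [CommRing A] [IsDomain A]
  {K : Type u} [Field K] [Algebra A K] [IsFractionRing A K]
  {M N : Type u} [AddCommGroup M] [Module A M] [AddCommGroup N] [Module A N]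

/-- The lattice of a subspace. -/
def lat (F : Submodule K (K ⊗[A] M)) : Submodule A M :=
  (F.restrictScalars A).comap (TensorProduct.mk A K M 1)

lemma mem_lat {F : Submodule K (K ⊗[A] M)} {x : M} : x ∈ lat F ↔ (1 : K) ⊗ₜ[A] x ∈ F := Iff.rfl

lemma one_tmul_smul (a : A) (x : M) :
    (1 : K) ⊗ₜ[A] (a • x) = algebraMap A K a • ((1 : K) ⊗ₜ[A] x) := by
  rw [tmul_smul, algebraMap_smul]

/-- Saturation: membership in the lattice can be checked after multiplication. -/
lemma mem_lat_of_smul {F : Submodule K (K ⊗[A] M)} {a : A} (ha : a ≠ 0) {x : M}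
    (h : a • x ∈ lat F) : x ∈ lat F := by
  rw [mem_lat] at *
  rw [one_tmul_smul] at h
  have h2 : algebraMap A K a ≠ 0 := by
    rw [Ne, IsFractionRing.to_map_eq_zero_iff]
    exact ha
  exact (F.smul_mem_iff h2).1 h

omit [IsDomain A] in
lemma exists_coords {n : ℕ} (b : Module.Basis (Fin n) A N) (y : M ⊗[A] N) :
    ∃ x : Fin n → M, y = ∑ i, x i ⊗ₜ[A] b i := by
  induction y with
  | zero => exact ⟨0, by simp⟩
  | tmul m c =>
    refine ⟨fun i => b.repr c i • m, ?_⟩
    conv_lhs => rw [← b.sum_repr c]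
    rw [tmul_sum]
    exact Finset.sum_congr rfl fun i _ => (smul_tmul _ _ _).symm
  | add y z hy hz =>
    obtain ⟨x, hx⟩ := hy
    obtain ⟨x', hx'⟩ := hz
    refine ⟨x + x', ?_⟩
    rw [hx, hx', ← Finset.sum_add_distrib]
    exact Finset.sum_congr rfl fun i _ => (add_tmul _ _ _).symm

omit [IsDomain A] in
lemma exists_functional {V : Type u} [AddCommGroup V] [Module K V] {n : ℕ} {v : Fin n → V}
    (hv : LinearIndependent K v) (j : Fin n) : ∃ ψ : V →ₗ[K] K, ∀ i, ψ (v i) = if i = j then 1 else 0 := by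
  obtain ⟨r, hr⟩ := (Finsupp.linearCombination K v).exists_leftInverse_of_injective
    (LinearMap.ker_eq_bot.2 hv)
  refine ⟨Finsupp.lapply j ∘ₗ r, fun i => ?_⟩
  have h1 : v i = Finsupp.linearCombination K v (Finsupp.single i 1) := by simp
  rw [LinearMap.comp_apply, h1, ← LinearMap.comp_apply r, hr, LinearMap.id_apply,
    Finsupp.lapply_apply, Finsupp.single_apply]

/-- Elements of the tensor product with generically small slices. -/
theorem exists_sum [IsPrincipalIdealRing A] [Module.Flat A N] (F : Submodule K (K ⊗[A] M))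
    (t : M ⊗[A] N)
    (ht : TensorProduct.AlgebraTensorModule.distribBaseChange A K M N (1 ⊗ₜ t) ∈
      LinearMap.range (F.subtype.rTensor (K ⊗[A] N))) :
    ∃ (n : ℕ) (x : Fin n → M) (z : Fin n → N), (∀ i, x i ∈ lat F) ∧ t = ∑ i, x i ⊗ₜ[A] z i := by
  obtain ⟨N', hfin, hs⟩ := TensorProduct.exists_finite_submodule_right_of_setFinite {t}
    (Set.finite_singleton t)
  obtain ⟨y, hy⟩ := hs rfl
  haveI : Module.Free A N' := inferInstance
  let b := Module.finBasis A N'
  obtain ⟨x, hx⟩ := exists_coords b y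
  have ht2 : t = ∑ i, x i ⊗ₜ[A] (b i : N) := by
    rw [← hy, hx, map_sum]
    rfl
  refine ⟨_, x, fun i => (b i : N), fun j => ?_, ht2⟩
  have hz : LinearIndependent A (fun i => (b i : N)) :=
    b.linearIndependent.map' N'.subtype (Submodule.ker_subtype N')
  haveI : Module.Flat A K := IsLocalization.flat K (nonZeroDivisors A)
  have hz' : LinearIndependent K (fun i => (1 : K) ⊗ₜ[A] (b i : N)) :=
    Module.Flat.linearIndependent_one_tmul hz
  obtain ⟨ψ, hψ⟩ := exists_functional hz' j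
  have h1 := (mem_range_rTensor_iff F _).1 ht ψ
  rw [mem_lat]
  convert h1
  rw [ht2, tmul_sum, map_sum, map_sum]
  simp only [TensorProduct.AlgebraTensorModule.distribBaseChange_tmul, slice_tmul, hψ, ite_smul,
    one_smul, zero_smul, Finset.sum_ite_eq', Finset.mem_univ, if_true]

/-- Elements of the lattice of `F' ⊔ K v` are proportional modulo the lattice of `F'`. -/
theorem exists_prop [ValuationRing A] {F : Submodule K (K ⊗[A] M)} {v : K ⊗[A] M} {x y : M}
    (hx : x ∈ lat (F ⊔ Submodule.span K {v})) (hy : y ∈ lat (F ⊔ Submodule.span K {v})) :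
    ∃ c : A, x - c • y ∈ lat F ∨ y - c • x ∈ lat F := by
  rw [mem_lat, Submodule.mem_sup] at hx hy
  obtain ⟨f, hf, w, hw, hx⟩ := hx
  obtain ⟨f', hf', w', hw', hy⟩ := hy
  obtain ⟨α, rfl⟩ := Submodule.mem_span_singleton.1 hw
  obtain ⟨α', rfl⟩ := Submodule.mem_span_singleton.1 hw'
  by_cases hα' : α' = 0
  · refine ⟨0, Or.inr ?_⟩
    rw [mem_lat, zero_smul, sub_zero, ← hy, hα', zero_smul, add_zero]
    exact hf'
  obtain ⟨a, b, hb, hab⟩ := IsFractionRing.div_surjective (A := A) (α / α')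
  have hb0 : b ≠ 0 := nonZeroDivisors.ne_zero hb
  have hb0' : algebraMap A K b ≠ 0 := by
    rw [Ne, IsFractionRing.to_map_eq_zero_iff]
    exact hb0
  have h1 : algebraMap A K b * α = algebraMap A K a * α' := by
    field_simp at hab
    rw [mul_comm] at hab
    rw [← hab, mul_comm]
  have h2 : b • x - a • y ∈ lat F := by
    rw [mem_lat, tmul_sub, one_tmul_smul, one_tmul_smul, ← hx, ← hy]
    have h3 : algebraMap A K b • (f + α • v) - algebraMap A K a • (f' + α' • v) =
        algebraMap A K b • f - algebraMap A K a • f' := by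
      rw [smul_add, smul_add, smul_smul, smul_smul, h1]
      abel
    rw [h3]
    exact F.sub_mem (F.smul_mem _ hf) (F.smul_mem _ hf')
  rcases ValuationRing.dvd_total a b with ⟨c, hc⟩ | ⟨c, hc⟩
  · -- `b = a c`
    have ha0 : a ≠ 0 := by
      rintro rfl
      exact hb0 (by rw [hc, zero_mul])
    refine ⟨c, Or.inr ?_⟩
    rw [hc, mul_smul, ← smul_sub] at h2
    have h4 := mem_lat_of_smul ha0 h2
    rw [← neg_sub]
    exact (lat F).neg_mem h4
  · refine ⟨c, Or.inl ?_⟩
    rw [hc, mul_smul, ← smul_sub] at h2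
    exact mem_lat_of_smul hb0 h2

end Lattice

section Red

variable {A : Type u} [CommRing A] [IsDomain A] [IsLocalRing A]
  {K : Type u} [Field K] [Algebra A K] [IsFractionRing A K]
  {M : Type u} [AddCommGroup M] [Module A M]

local notation "κ" => IsLocalRing.ResidueField A

omit [IsDomain A] in
lemma exists_one_tmul (x : κ ⊗[A] M) : ∃ m : M, (1 : κ) ⊗ₜ[A] m = x := by
  induction x with
  | zero => exact ⟨0, by simp⟩
  | tmul c m =>
    obtain ⟨a, rfl⟩ := IsLocalRing.residue_surjective c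
    refine ⟨a • m, ?_⟩
    rw [tmul_smul, smul_tmul']
    congr 1
    rw [Algebra.smul_def, mul_one]
    rfl
  | add x y hx hy =>
    obtain ⟨m, rfl⟩ := hx
    obtain ⟨m', rfl⟩ := hy
    exact ⟨m + m', tmul_add _ _ _⟩

/-- The reduction of a subspace of the generic fibre. -/
def red (F : Submodule K (K ⊗[A] M)) : Submodule κ (κ ⊗[A] M) where
  carrier := {x | ∃ m ∈ lat F, (1 : κ) ⊗ₜ[A] m = x}
  add_mem' := by
    rintro _ _ ⟨m, hm, rfl⟩ ⟨m', hm', rfl⟩
    exact ⟨m + m', (lat F).add_mem hm hm', tmul_add _ _ _⟩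
  zero_mem' := ⟨0, (lat F).zero_mem, tmul_zero _ _⟩
  smul_mem' := by
    rintro c _ ⟨m, hm, rfl⟩
    obtain ⟨a, rfl⟩ := IsLocalRing.residue_surjective c
    refine ⟨a • m, (lat F).smul_mem a hm, ?_⟩
    rw [tmul_smul, smul_tmul', smul_tmul']
    congr 1

lemma mem_red {F : Submodule K (K ⊗[A] M)} {x : κ ⊗[A] M} :
    x ∈ red F ↔ ∃ m ∈ lat F, (1 : κ) ⊗ₜ[A] m = x := Iff.rfl

lemma red_mono {F F' : Submodule K (K ⊗[A] M)} (h : F ≤ F') : red F ≤ red F' := by
  rintro x ⟨m, hm, rfl⟩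
  exact ⟨m, h hm, rfl⟩

lemma red_bot [Module.Flat A M] : red (⊥ : Submodule K (K ⊗[A] M)) = ⊥ := by
  rw [eq_bot_iff]
  rintro x ⟨m, hm, rfl⟩
  rw [mem_lat, Submodule.mem_bot] at hm
  have hinj : Function.Injective (TensorProduct.mk A K M 1) := by
    have h1 : Function.Injective ((Algebra.linearMap A K).rTensor M) :=
      Module.Flat.rTensor_preserves_injective_linearMap _ (FaithfulSMul.algebraMap_injective A K)
    intro x y hxy
    have h2 := h1.comp (TensorProduct.lid A M).symm.injective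
    apply h2
    simpa using hxy
  have : m = 0 := hinj (by rw [map_zero]; exact hm)
  rw [this, tmul_zero]
  exact Submodule.zero_mem _

end Red

section Hopf

variable {A : Type u} [CommRing A] [IsDomain A] [IsDiscreteValuationRing A]
  {K : Type u} [Field K] [Algebra A K] [IsFractionRing A K]
  {H : Type u} [CommRing H] [HopfAlgebra A H] [Module.Flat A H]

local notation "κ" => IsLocalRing.ResidueField A

lemma distrib_mem {F : Submodule K (K ⊗[A] H)} {n : ℕ} {x z : Fin n → H} (hx : ∀ i, x i ∈ lat F)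
    (φ : κ ⊗[A] H →ₗ[κ] κ) :
    slice (κ ⊗[A] H) φ (TensorProduct.AlgebraTensorModule.distribBaseChange A κ H H
      (1 ⊗ₜ ∑ i, x i ⊗ₜ[A] z i)) ∈ red F := by
  rw [tmul_sum, map_sum, map_sum]
  refine Submodule.sum_mem _ fun i _ => ?_
  rw [TensorProduct.AlgebraTensorModule.distribBaseChange_tmul, slice_tmul]
  exact Submodule.smul_mem _ _ ⟨x i, hx i, rfl⟩

/-- The reduction of a subcomodule is a subcomodule. -/
theorem isSubcomod_red {F : Submodule K (K ⊗[A] H)}
    (hF : IsSubcomod (k := K) (A := K ⊗[A] H) F) :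
    IsSubcomod (k := κ) (A := κ ⊗[A] H) (red F) := by
  rintro _ ⟨h, hh, rfl⟩
  rw [mem_range_rTensor_iff]
  intro φ
  have h1 : CoalgebraStruct.comul (R := K) ((1 : K) ⊗ₜ[A] h) ∈
    LinearMap.range (F.subtype.rTensor (K ⊗[A] H)) := hF _ hh
  rw [K191.BaseInt.comul_one_tmul] at h1
  obtain ⟨n, x, z, hx, hxz⟩ := exists_sum F _ h1
  change slice _ φ (CoalgebraStruct.comul (R := κ) ((1 : κ) ⊗ₜ[A] h)) ∈ _
  rw [K191.BaseInt.comul_one_tmul, hxz]
  exact distrib_mem hx φ

/-- A simple subcomodule of the special fibre has a jump. -/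
theorem exists_step (P : K ⊗[A] H → Prop)
    (hE : ∀ (V : Type u) [AddCommGroup V] [Module K V] [Comod K (K ⊗[A] H) V], Module.Finite K V →
      Nontrivial V → ∃ (v : V) (g : K ⊗[A] H), v ≠ 0 ∧ P g ∧
        Comod.coact (k := K) (A := K ⊗[A] H) v = v ⊗ₜ[K] g)
    {S : Submodule κ (κ ⊗[A] H)} (hS : IsSimpleSub κ (κ ⊗[A] H) S) :
    ∃ (F : Submodule K (K ⊗[A] H)) (v g : K ⊗[A] H),
      IsSubcomod (k := K) (A := K ⊗[A] H) F ∧ P g ∧
      (CoalgebraStruct.comul (R := K) v - v ⊗ₜ[K] g) ∈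
        LinearMap.range (F.subtype.rTensor (K ⊗[A] H)) ∧
      S ⊓ red F = ⊥ ∧ S ≤ red (F ⊔ Submodule.span K {v}) := by
  classical
  obtain ⟨x, hxS, hx0⟩ := S.ne_bot_iff.1 hS.ne_bot
  obtain ⟨h, rfl⟩ := exists_one_tmul x
  let F₀ : Submodule K (K ⊗[A] H) := gen K (K ⊗[A] H) ((1 : K) ⊗ₜ[A] h)
  have hF₀ : IsSubcomod (k := K) (A := K ⊗[A] H) F₀ := isSubcomod_gen _
  haveI hF₀f : Module.Finite K F₀ := finite_gen _
  have hF₀S : S ⊓ red F₀ ≠ ⊥ := by
    intro h0
    have h1 : (1 : κ) ⊗ₜ[A] h ∈ S ⊓ red F₀ := ⟨hxS, ⟨h, self_mem_gen _, rfl⟩⟩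
    rw [h0, Submodule.mem_bot] at h1
    exact hx0 h1
  -- choose `F ≤ F₀` of maximal dimension
  let Q : ℕ → Prop := fun n => ∃ F : Submodule K (K ⊗[A] H), F ≤ F₀ ∧
    IsSubcomod (k := K) (A := K ⊗[A] H) F ∧ S ⊓ red F = ⊥ ∧ Module.finrank K F = n
  have hQ0 : Q 0 := ⟨⊥, bot_le, isSubcomod_bot, by rw [red_bot, inf_bot_eq], by simp⟩
  have hQb : ∀ n, Q n → n ≤ Module.finrank K F₀ := by
    rintro n ⟨F, hF, -, -, rfl⟩
    exact Submodule.finrank_mono hF
  obtain ⟨F, hFF₀, hFs, hFS, hFd⟩ : Q (Nat.findGreatest Q (Module.finrank K F₀)) :=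
    Nat.findGreatest_spec (P := Q) (Nat.zero_le _) hQ0
  have hne : F ≠ F₀ := by
    rintro rfl
    exact hF₀S hFS
  have hFf : Module.Finite K F := Submodule.finiteDimensional_of_le hFF₀
  -- the quotient comodule
  letI := quotComod F hFs
  have hq : IsComodHom K (K ⊗[A] H) F.mkQ := isComodHom_mkQ F hFs
  have hmap : IsSubcomod (k := K) (A := K ⊗[A] H) (F₀.map F.mkQ) := hq.map hF₀
  have hmap0 : F₀.map F.mkQ ≠ ⊥ := by
    intro h0
    apply hne
    refine le_antisymm hFF₀ fun y hy => ?_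
    have h1 : F.mkQ y ∈ F₀.map F.mkQ := Submodule.mem_map_of_mem hy
    rw [h0, Submodule.mem_bot] at h1
    exact (Submodule.Quotient.mk_eq_zero F).1 h1
  letI := subComod (F₀.map F.mkQ) hmap
  have hs : IsComodHom K (K ⊗[A] H) (F₀.map F.mkQ).subtype := isComodHom_subtype _ hmap
  obtain ⟨⟨w, hw⟩, g, hw0, hPg, hwg⟩ := hE (F₀.map F.mkQ) inferInstance
    (Submodule.nontrivial_iff_ne_bot.2 hmap0)
  obtain ⟨v, hv, rfl⟩ := hw
  have hvg : Comod.coact (k := K) (A := K ⊗[A] H) (F.mkQ v) = F.mkQ v ⊗ₜ[K] g := by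
    have h1 := hs ⟨F.mkQ v, ⟨v, hv, rfl⟩⟩
    rw [hwg, LinearMap.rTensor_tmul] at h1
    exact h1
  have hvF : v ∉ F := by
    intro h1
    apply hw0
    exact Subtype.ext ((Submodule.Quotient.mk_eq_zero F).2 h1)
  have hF'' : IsSubcomod (k := K) (A := K ⊗[A] H) (F ⊔ Submodule.span K {v}) := by
    have h1 : IsSubcomod (k := K) (A := K ⊗[A] H) (Submodule.span K {F.mkQ v}) :=
      isSubcomod_span_singleton hvg
    have h2 : F ⊔ Submodule.span K {v} = (Submodule.span K {F.mkQ v}).comap F.mkQ := by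
      rw [← Set.image_singleton, ← Submodule.map_span, Submodule.comap_map_mkQ]
    rw [h2]
    exact hq.comap h1
  have hF''le : F ⊔ Submodule.span K {v} ≤ F₀ := by
    refine sup_le hFF₀ ?_
    rw [Submodule.span_singleton_le_iff_mem]
    exact hv
  refine ⟨F, v, g, hFs, hPg, ?_, hFS, ?_⟩
  · rw [mem_range_rTensor_iff]
    intro φ
    have h1 : F.mkQ.rTensor (K ⊗[A] H) (CoalgebraStruct.comul (R := K) v - v ⊗ₜ[K] g) = 0 := by
      rw [map_sub, LinearMap.rTensor_tmul]
      have h2 := hq v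
      rw [hvg] at h2
      exact sub_eq_zero.2 h2.symm
    have h3 : F.mkQ (slice _ φ (CoalgebraStruct.comul (R := K) v - v ⊗ₜ[K] g)) = 0 := by
      rw [← slice_rTensor, h1, map_zero]
    exact (Submodule.Quotient.mk_eq_zero F).1 h3
  · refine hS.le_of_ne (isSubcomod_red hF'') fun h0 => ?_
    have h1 : Q (Module.finrank K (F ⊔ Submodule.span K {v} : Submodule K (K ⊗[A] H))) :=
      ⟨_, hF''le, hF'', h0, rfl⟩
    have h2 := Nat.le_findGreatest (hQb _ h1) h1
    rw [← hFd] at h2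
    haveI : Module.Finite K (F ⊔ Submodule.span K {v} : Submodule K (K ⊗[A] H)) :=
      Submodule.finiteDimensional_of_le hF''le
    have h3 := Submodule.eq_of_le_of_finrank_le (le_sup_left : F ≤ F ⊔ Submodule.span K {v}) h2
    apply hvF
    rw [h3]
    exact Submodule.mem_sup_right (Submodule.mem_span_singleton_self v)

end Hopf

end K191.Dvr
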