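import Groth.Agent.HopfRep.K191.Dvr

/-!
# Specialisation of unipotence and trigonalizability over a discrete valuation ring
-/

set_option autoImplicit false

universe u

open TensorProduct HopfRep

namespace K191.DvrFin

open Groth.Agent.Books.ComodBasic Groth.Agent.Books.ComodHom Groth.Agent.Books.ComodInv
  K191.SimpleSub K191.Dvr

variable {A : Type u} [CommRing A] [IsDomain A] [IsDiscreteValuationRing A]
  {K : Type u} [Field K] [Algebra A K] [IsFractionRing A K]
  {H : Type u} [CommRing H] [HopfAlgebra A H] [Module.Flat A H]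

local notation "κ" => IsLocalRing.ResidueField A

/-- Unipotent groups specialise to unipotent groups. -/
theorem unipotent (hK : IsUnipotent K (K ⊗[A] H)) : IsUnipotent κ (κ ⊗[A] H) := by
  intro V _ _ _ _ hV
  -- a simple subcomodule of `V`
  obtain ⟨S₀, -, hS₀, hS₀f⟩ := exists_simpleSub_le (k := κ) (A := κ ⊗[A] H) (V := V)
    (W := ⊤) isSubcomod_top (by
      obtain ⟨v, hv⟩ := exists_ne (0 : V)
      intro h
      have h1 : v ∈ (⊤ : Submodule κ V) := trivial
      rw [h, Submodule.mem_bot] at h1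
      exact hv h1)
  letI := subComod S₀ hS₀.sub
  have hs : IsComodHom κ (κ ⊗[A] H) S₀.subtype := isComodHom_subtype S₀ hS₀.sub
  haveI : Nontrivial S₀ := Submodule.nontrivial_iff_ne_bot.2 hS₀.ne_bot
  obtain ⟨f, hf, hf0⟩ := exists_embedding (k := κ) (A := κ ⊗[A] H) (V := S₀)
  have hfinj := hf.simple_or hS₀.isSimple hf0
  have hS := isSimpleSub_range hf hfinj hS₀.isSimple
  obtain ⟨F, v, g, hF, rfl, hvg, h0, hle⟩ := exists_step (A := A) (K := K) (H := H)
    (fun g => g = 1) (fun V _ _ _ hfin hnt => by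
      obtain ⟨v, hv, hv0⟩ := (Submodule.ne_bot_iff _).1 (hK V hfin hnt)
      exact ⟨v, 1, hv0, rfl, hv⟩) hS
  -- all vectors of `S` are fixed
  have key : ∀ x ∈ LinearMap.range f, CoalgebraStruct.comul (R := κ) x = x ⊗ₜ[κ] 1 := by
    intro x hx
    obtain ⟨h, hh, rfl⟩ := hle hx
    have h1 : TensorProduct.AlgebraTensorModule.distribBaseChange A K H H
        (1 ⊗ₜ (CoalgebraStruct.comul (R := A) h - h ⊗ₜ[A] 1)) ∈
        LinearMap.range (F.subtype.rTensor (K ⊗[A] H)) := by
      have h2 : TensorProduct.AlgebraTensorModule.distribBaseChange A K H H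
        (1 ⊗ₜ (CoalgebraStruct.comul (R := A) h - h ⊗ₜ[A] 1)) =
          CoalgebraStruct.comul (R := K) ((1 : K) ⊗ₜ[A] h) -
            ((1 : K) ⊗ₜ[A] h) ⊗ₜ[K] (1 : K ⊗[A] H) := by
        rw [tmul_sub, map_sub, ← K191.BaseInt.comul_one_tmul,
          TensorProduct.AlgebraTensorModule.distribBaseChange_tmul,
          Algebra.TensorProduct.one_def]
      rw [h2]
      obtain ⟨f', hf', w, hw, hfw⟩ := Submodule.mem_sup.1 (mem_lat.1 hh)
      obtain ⟨α, rfl⟩ := Submodule.mem_span_singleton.1 hw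
      rw [← hfw]
      have h3 : CoalgebraStruct.comul (R := K) (f' + α • v) - (f' + α • v) ⊗ₜ[K] (1 : K ⊗[A] H) =
          CoalgebraStruct.comul (R := K) f' - f' ⊗ₜ[K] (1 : K ⊗[A] H) +
            α • (CoalgebraStruct.comul (R := K) v - v ⊗ₜ[K] (1 : K ⊗[A] H)) := by
        rw [map_add, map_smul, add_tmul, ← smul_tmul', smul_sub]
        abel
      rw [h3]
      refine Submodule.add_mem _ (Submodule.sub_mem _ (hF f' hf') ⟨(⟨f', hf'⟩ : F) ⊗ₜ 1, rfl⟩)
        (Submodule.smul_mem _ _ hvg)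
    obtain ⟨n, y, z, hy, hyz⟩ := exists_sum F _ h1
    have h4 : CoalgebraStruct.comul (R := κ) ((1 : κ) ⊗ₜ[A] h) -
        ((1 : κ) ⊗ₜ[A] h) ⊗ₜ[κ] (1 : κ ⊗[A] H) =
        TensorProduct.AlgebraTensorModule.distribBaseChange A κ H H
          (1 ⊗ₜ (CoalgebraStruct.comul (R := A) h - h ⊗ₜ[A] 1)) := by
      rw [tmul_sub, map_sub, ← K191.BaseInt.comul_one_tmul,
        TensorProduct.AlgebraTensorModule.distribBaseChange_tmul,
        Algebra.TensorProduct.one_def]
    rw [← sub_eq_zero]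
    refine eq_zero_of_slice fun φ => ?_
    have h5 : slice (κ ⊗[A] H) φ (CoalgebraStruct.comul (R := κ) ((1 : κ) ⊗ₜ[A] h) -
        ((1 : κ) ⊗ₜ[A] h) ⊗ₜ[κ] (1 : κ ⊗[A] H)) ∈ LinearMap.range f ⊓ red F := by
      refine ⟨?_, ?_⟩
      · rw [map_sub, slice_tmul]
        exact Submodule.sub_mem _ ((isSubcomod_iff_dact _).1 hS.sub φ _ hx)
          (Submodule.smul_mem _ _ hx)
      · rw [h4, hyz]
        exact distrib_mem hy φ
    rw [h0] at h5
    exact h5
  obtain ⟨s, hs0⟩ := exists_ne (0 : S₀)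
  refine (Submodule.ne_bot_iff _).2 ⟨(s : V), ?_, fun h => hs0 (Subtype.ext h)⟩
  have h6 : s ∈ fixedPts κ (κ ⊗[A] H) S₀ := by
    rw [mem_fixedPts_iff_dact]
    intro φ
    apply hfinj
    rw [hf.map_dact, map_smul]
    have h7 := key (f s) (LinearMap.mem_range_self f s)
    rw [dact_apply]
    change slice _ φ (CoalgebraStruct.comul (R := κ) (f s)) = _
    rw [h7, slice_tmul]
  exact IsComodHom.map_mem_fixedPts hs h6

/-- Trigonalizable groups specialise to trigonalizable groups. -/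
theorem trigonalizable (hK : IsTrigonalizable K (K ⊗[A] H)) : IsTrigonalizable κ (κ ⊗[A] H) := by
  intro V _ _ _ _ hV
  haveI : Nontrivial V := hV.1
  obtain ⟨f, hf, hf0⟩ := exists_embedding (k := κ) (A := κ ⊗[A] H) (V := V)
  have hfinj := hf.simple_or hV hf0
  have hS := isSimpleSub_range hf hfinj hV
  obtain ⟨F, v, g, hF, -, hvg, h0, hle⟩ := exists_step (A := A) (K := K) (H := H)
    (fun _ => True) (fun V _ _ _ hfin hnt => by
      obtain ⟨S, -, hS, hSf⟩ := exists_simpleSub_le (k := K) (A := K ⊗[A] H) (V := V)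
        (W := ⊤) isSubcomod_top (by
          obtain ⟨v, hv⟩ := exists_ne (0 : V)
          intro h
          have h1 : v ∈ (⊤ : Submodule K V) := trivial
          rw [h, Submodule.mem_bot] at h1
          exact hv h1)
      letI := subComod S hS.sub
      have h1 := hK S hSf hS.isSimple
      obtain ⟨v, hv, hv0⟩ := S.ne_bot_iff.1 hS.ne_bot
      have h2 : S = Submodule.span K {v} := by
        symm
        refine Submodule.eq_of_le_of_finrank_le ?_ ?_
        · rw [Submodule.span_singleton_le_iff_mem]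
          exact hv
        · rw [h1, finrank_span_singleton hv0]
      have h3 := hS.sub
      rw [h2] at h3
      obtain ⟨g, hg⟩ := exists_coact_eq_tmul h3
      exact ⟨v, g, hv0, trivial, hg⟩) hS
  -- any two vectors are proportional
  obtain ⟨s, hs0⟩ := exists_ne (0 : V)
  refine finrank_eq_one s hs0 fun w => ?_
  obtain ⟨x, hx, hxs⟩ := hle (LinearMap.mem_range_self f w)
  obtain ⟨y, hy, hys⟩ := hle (LinearMap.mem_range_self f s)
  have hred : ∀ m m' : H, ∀ c : A, m - c • m' ∈ lat F → ∀ a b : V, (1 : κ) ⊗ₜ[A] m = f a →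
      (1 : κ) ⊗ₜ[A] m' = f b → a = algebraMap A κ c • b := by
    intro m m' c hm a b ha hb
    apply hfinj
    rw [map_smul, ← sub_eq_zero]
    have h1 : f a - algebraMap A κ c • f b = (1 : κ) ⊗ₜ[A] (m - c • m') := by
      rw [← ha, ← hb, tmul_sub, tmul_smul, algebraMap_smul]
    have h2 : f a - algebraMap A κ c • f b ∈ LinearMap.range f ⊓ red F := by
      refine ⟨Submodule.sub_mem _ (LinearMap.mem_range_self f a)
        (Submodule.smul_mem _ _ (LinearMap.mem_range_self f b)), ?_⟩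
      rw [h1]
      exact ⟨_, hm, rfl⟩
    rw [h0] at h2
    exact h2
  obtain ⟨c, hc | hc⟩ := exists_prop hx hy
  · exact ⟨_, (hred x y c hc w s hxs hys).symm⟩
  · have h1 := hred y x c hc s w hys hxs
    have h2 : algebraMap A κ c ≠ 0 := by
      intro h3
      rw [h3, zero_smul] at h1
      exact hs0 h1
    exact ⟨(algebraMap A κ c)⁻¹, by rw [h1, smul_smul, inv_mul_cancel₀ h2, one_smul]⟩

end K191.DvrFin
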