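import Groth.Agent.HopfRep.K191.Galois
import Groth.Agent.Books.BorelAlg
import Groth.Agent.Books.CoidealFlat

/-!
# Exact sequences of affine groups and linear reductivity

`1 → K → G → Q → 1` given by `φ : B → A` injective and `ψ : A → C` surjective with `ker ψ = φ(B⁺) A`.
* `coinv`, `can_bijective`: `A` is a Galois extension of `B`;
* `isLinearlyReductive_sub`, `isLinearlyReductive_quot`, `isLinearlyReductive_of_ext`.
-/

set_option autoImplicit false

universe u

open TensorProduct HopfRep WithConv

namespace K191.ExactSeq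

open Groth.Agent.Books.ComodBasic Groth.Agent.Books.ComodHom Groth.Agent.Books.CoeffMat
  Groth.Agent.Books.ComodInv K191.Integral K191.Reductive K191.Galois

variable {k : Type u} [Field k] {A C B : Type u} [CommRing A] [HopfAlgebra k A]
  [CommRing C] [HopfAlgebra k C] [CommRing B] [HopfAlgebra k B] [Algebra B A] [IsScalarTower k B A]
  {ψ : A →ₐc[k] C} {φ : B →ₐc[k] A}

lemma map_map_comul (b : B) : CoalgebraStruct.comul (R := k) (φ b) =
    TensorProduct.map (φ : B →ₐ[k] A).toLinearMap (φ : B →ₐ[k] A).toLinearMap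
      (CoalgebraStruct.comul (R := k) b) :=
  (Groth.Agent.Books.CoidealFlat.map_comul φ b).symm

section Ker

variable (hker : RingHom.ker (ψ : A →ₐ[k] C) =
  Ideal.map (φ : B →ₐ[k] A) (RingHom.ker (Bialgebra.counitAlgHom k B)))
include hker

lemma psi_phi (b : B) : ψ (φ b) = algebraMap k C (CoalgebraStruct.counit (R := k) b) := by
  have h1 : b - algebraMap k B (CoalgebraStruct.counit (R := k) b) ∈
      RingHom.ker (Bialgebra.counitAlgHom k B) := by
    rw [RingHom.mem_ker, map_sub, AlgHom.commutes]
    exact sub_self _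
  have h2 : φ (b - algebraMap k B (CoalgebraStruct.counit (R := k) b)) ∈
      RingHom.ker (ψ : A →ₐ[k] C) := by
    rw [hker]
    exact Ideal.mem_map_of_mem _ h1
  have h3 : ψ (φ (b - algebraMap k B (CoalgebraStruct.counit (R := k) b))) = 0 := h2
  rw [map_sub, map_sub, sub_eq_zero] at h3
  rw [h3]
  exact AlgHom.commutes ((ψ : A →ₐ[k] C).comp (φ : B →ₐ[k] A)) _

lemma rho_phi (b : B) : rho ψ (φ b) = φ b ⊗ₜ[k] (1 : C) := by
  rw [rho_apply, map_map_comul]
  have h1 : ∀ z : B ⊗[k] B, (ψ : A →ₐ[k] C).toLinearMap.lTensor A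
      (TensorProduct.map (φ : B →ₐ[k] A).toLinearMap (φ : B →ₐ[k] A).toLinearMap z) =
      TensorProduct.map (φ : B →ₐ[k] A).toLinearMap (Algebra.linearMap k C)
        ((CoalgebraStruct.counit (R := k) (A := B)).lTensor B z) := by
    intro z
    induction z with
    | zero => simp
    | add x y hx hy => simp only [map_add, hx, hy]
    | tmul x y =>
      rw [map_tmul, LinearMap.lTensor_tmul, LinearMap.lTensor_tmul, map_tmul]
      congr 1
      exact psi_phi hker y
  have h2 : (CoalgebraStruct.counit (R := k) (A := B)).lTensor B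
    (CoalgebraStruct.comul (R := k) b) = b ⊗ₜ[k] (1 : k) := Coalgebra.lTensor_counit_comul b
  rw [h1, h2, map_tmul]
  congr 1
  exact map_one (algebraMap k C)

variable (hφ : ∀ b, φ b = algebraMap B A b)
include hφ

lemma coinv : Coinv ψ B := fun b => by rw [← hφ, rho_phi hker]

end Ker

/-- The left inclusion. -/
noncomputable def incL (k A B : Type u) [Field k] [CommRing A] [HopfAlgebra k A]
    [CommRing B] [HopfAlgebra k B] [Algebra B A] [IsScalarTower k B A] : A →ₐ[k] A ⊗[B] A :=
  (Algebra.TensorProduct.includeLeft : A →ₐ[B] A ⊗[B] A).restrictScalars k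

/-- The right inclusion. -/
noncomputable def incR (k A B : Type u) [Field k] [CommRing A] [HopfAlgebra k A]
    [CommRing B] [HopfAlgebra k B] [Algebra B A] [IsScalarTower k B A] : A →ₐ[k] A ⊗[B] A :=
  (Algebra.TensorProduct.includeRight : A →ₐ[B] A ⊗[B] A).restrictScalars k

/-- The map `a ↦ S(a₁) ⊗ a₂`. -/
noncomputable def kappa (k A B : Type u) [Field k] [CommRing A] [HopfAlgebra k A]
    [CommRing B] [HopfAlgebra k B] [Algebra B A] [IsScalarTower k B A] :
    WithConv (A →ₐ[k] A ⊗[B] A) :=
  (toConv (incL k A B))⁻¹ * toConv (incR k A B)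

lemma comp_inv {R R' : Type u} [CommRing R] [Algebra k R] [CommRing R'] [Algebra k R']
    (f : WithConv (A →ₐ[k] R)) (g : R →ₐ[k] R') :
    toConv (g.comp (f⁻¹).ofConv) = (toConv (g.comp f.ofConv))⁻¹ := rfl

/-- Precomposition with a Hopf algebra map as a group homomorphism. -/
noncomputable def preHom (φ : B →ₐc[k] A) {R : Type u} [CommRing R] [Algebra k R] :
    WithConv (A →ₐ[k] R) →* WithConv (B →ₐ[k] R) :=
  MonoidHom.mk' (fun f => toConv (f.ofConv.comp (φ : B →ₐ[k] A))) fun f g => by
    apply WithConv.ofConv_injective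
    exact AlgHom.convMul_comp_bialgHom_distrib f g φ

/-- Postcomposition with an algebra map as a group homomorphism. -/
noncomputable def postHom {R R' : Type u} [CommRing R] [Algebra k R] [CommRing R'] [Algebra k R']
    (g : R →ₐ[k] R') : WithConv (A →ₐ[k] R) →* WithConv (A →ₐ[k] R') :=
  MonoidHom.mk' (fun f => toConv (g.comp f.ofConv)) fun f f' => by
    apply WithConv.ofConv_injective
    exact AlgHom.comp_convMul_distrib g f f'

lemma kappa_phi (hφ : ∀ b, φ b = algebraMap B A b) (b : B) :
    (kappa k A B).ofConv (φ b) = algebraMap k _ (CoalgebraStruct.counit (R := k) b) := by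
  have h1 : preHom φ (kappa k A B) = 1 := by
    rw [kappa, map_mul, map_inv]
    have h2 : preHom φ (toConv (incL k A B)) = preHom φ (toConv (incR k A B)) := by
      apply WithConv.ofConv_injective
      refine AlgHom.ext fun b => ?_
      change (φ b) ⊗ₜ[B] (1 : A) = (1 : A) ⊗ₜ[B] (φ b)
      rw [hφ, Algebra.algebraMap_eq_smul_one, smul_tmul]
    rw [h2, inv_mul_cancel]
  have h3 := congrArg (fun f : WithConv (B →ₐ[k] A ⊗[B] A) => f.ofConv b) h1
  exact h3

/-- The coaction as a convolution product. -/
lemma rho_eq_conv : toConv (rho ψ) =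
    toConv (Algebra.TensorProduct.includeLeft : A →ₐ[k] A ⊗[k] C) *
      toConv ((Algebra.TensorProduct.includeRight : C →ₐ[k] A ⊗[k] C).comp (ψ : A →ₐ[k] C)) := by
  apply WithConv.ofConv_injective
  refine AlgHom.ext fun a => ?_
  rw [AlgHom.convMul_def]
  change (ψ : A →ₐ[k] C).toLinearMap.lTensor A (CoalgebraStruct.comul (R := k) a) =
    Algebra.TensorProduct.lmul' k (Algebra.TensorProduct.map _ _ (CoalgebraStruct.comul (R := k) a))
  generalize CoalgebraStruct.comul (R := k) a = y
  induction y with
  | zero => simp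
  | tmul x y =>
    rw [LinearMap.lTensor_tmul, Algebra.TensorProduct.map_tmul, Algebra.TensorProduct.lmul'_apply_tmul]
    change x ⊗ₜ[k] (ψ y) = (x ⊗ₜ[k] (1 : C)) * ((1 : A) ⊗ₜ[k] ψ y)
    rw [Algebra.TensorProduct.tmul_mul_tmul, mul_one, one_mul]
  | add x y hx hy => rw [map_add, map_add, map_add, ← hx, ← hy]

section Bij

variable (hψ : Function.Surjective ψ) (hker : RingHom.ker (ψ : A →ₐ[k] C) =
  Ideal.map (φ : B →ₐ[k] A) (RingHom.ker (Bialgebra.counitAlgHom k B)))
  (hφ : ∀ b, φ b = algebraMap B A b)
include hψ hker hφ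

/-- The canonical map is bijective. -/
theorem can_bijective (h : Coinv ψ B) : Function.Bijective (can h) := by
  -- `κ` factors through `C`
  have hk : ∀ a : A, a ∈ RingHom.ker (ψ : A →ₐ[k] C) → (kappa k A B).ofConv a = 0 := by
    intro a ha
    rw [hker] at ha
    have h1 : Ideal.map (φ : B →ₐ[k] A) (RingHom.ker (Bialgebra.counitAlgHom k B)) ≤
        RingHom.ker (kappa k A B).ofConv := by
      rw [Ideal.map_le_iff_le_comap]
      intro b hb
      rw [Ideal.mem_comap, RingHom.mem_ker]
      have h2 := kappa_phi (k := k) (φ := φ) hφ b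
      have h3 : CoalgebraStruct.counit (R := k) b = 0 := hb
      rw [h3, map_zero] at h2
      exact h2
    exact h1 ha
  let κ' : C →ₐ[k] A ⊗[B] A :=
    (Ideal.Quotient.liftₐ (RingHom.ker (ψ : A →ₐ[k] C)) (kappa k A B).ofConv hk).comp
      (Ideal.quotientKerAlgEquivOfSurjective (f := (ψ : A →ₐ[k] C)) hψ).symm.toAlgHom
  have hκ' : ∀ a, κ' (ψ a) = (kappa k A B).ofConv a := by
    intro a
    have h1 : (Ideal.quotientKerAlgEquivOfSurjective (f := (ψ : A →ₐ[k] C)) hψ).symm (ψ a) =
        Ideal.Quotient.mk _ a := by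
      rw [AlgEquiv.symm_apply_eq]
      rfl
    change (Ideal.Quotient.liftₐ (RingHom.ker (ψ : A →ₐ[k] C)) (kappa k A B).ofConv hk)
      ((Ideal.quotientKerAlgEquivOfSurjective
      (f := (ψ : A →ₐ[k] C)) hψ).symm (ψ a)) = _
    rw [h1]
    rfl
  let θ : A ⊗[k] C →ₐ[k] A ⊗[B] A := Algebra.TensorProduct.lift (incL k A B) κ' fun _ _ =>
    Commute.all _ _
  have hθ : ∀ (a : A) (c : C), θ (a ⊗ₜ[k] c) = incL k A B a * κ' c := fun a c => by
    rw [Algebra.TensorProduct.lift_tmul]
  have h1 : ∀ a : A, θ (rho ψ a) = incR k A B a := by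
    intro a
    have h2 : postHom θ (toConv (rho ψ)) = toConv (incR k A B) := by
      rw [rho_eq_conv, map_mul]
      have h3 : postHom θ (toConv (Algebra.TensorProduct.includeLeft : A →ₐ[k] A ⊗[k] C)) =
          toConv (incL k A B) := by
        apply WithConv.ofConv_injective
        refine AlgHom.ext fun a => ?_
        change θ (a ⊗ₜ[k] (1 : C)) = _
        rw [hθ, map_one, mul_one]
      have h4 : postHom θ (toConv ((Algebra.TensorProduct.includeRight :
          C →ₐ[k] A ⊗[k] C).comp (ψ : A →ₐ[k] C))) = kappa k A B := by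
        apply WithConv.ofConv_injective
        refine AlgHom.ext fun a => ?_
        change θ ((1 : A) ⊗ₜ[k] ψ a) = _
        rw [hθ, map_one, one_mul, hκ']
      rw [h3, h4, kappa, mul_inv_cancel_left]
    exact congrArg (fun f : WithConv (A →ₐ[k] A ⊗[B] A) => f.ofConv a) h2
  have h2 : ∀ a : A, (can h).restrictScalars k ((kappa k A B).ofConv a) = (1 : A) ⊗ₜ[k] ψ a := by
    intro a
    have h5 : postHom ((can h).restrictScalars k) (kappa k A B) =
        toConv ((Algebra.TensorProduct.includeRight : C →ₐ[k] A ⊗[k] C).comp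
          (ψ : A →ₐ[k] C)) := by
      rw [kappa, map_mul, map_inv]
      have h3 : postHom ((can h).restrictScalars k) (toConv (incL k A B)) =
          toConv (Algebra.TensorProduct.includeLeft : A →ₐ[k] A ⊗[k] C) := by
        apply WithConv.ofConv_injective
        refine AlgHom.ext fun a => ?_
        change can h (a ⊗ₜ[B] (1 : A)) = a ⊗ₜ[k] (1 : C)
        rw [can_tmul, map_one, mul_one]
      have h4 : postHom ((can h).restrictScalars k) (toConv (incR k A B)) = toConv (rho ψ) := by
        apply WithConv.ofConv_injective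
        refine AlgHom.ext fun a => ?_
        change can h ((1 : A) ⊗ₜ[B] a) = rho ψ a
        rw [can_tmul]
        exact one_mul _
      rw [h3, h4, rho_eq_conv, inv_mul_cancel_left]
    exact congrArg (fun f : WithConv (A →ₐ[k] A ⊗[k] C) => f.ofConv a) h5
  constructor
  · have hli : Function.LeftInverse θ (can h) := by
      intro z
      induction z with
      | zero => simp
      | add x y hx hy => rw [map_add, map_add, hx, hy]
      | tmul a a' =>
        rw [can_tmul, map_mul, hθ, map_one, mul_one, h1]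
        change (a ⊗ₜ[B] (1 : A)) * ((1 : A) ⊗ₜ[B] a') = _
        rw [Algebra.TensorProduct.tmul_mul_tmul, mul_one, one_mul]
    exact hli.injective
  · have hri : Function.RightInverse θ (can h) := by
      intro z
      induction z with
      | zero => simp
      | add x y hx hy => rw [map_add, map_add, hx, hy]
      | tmul a c =>
        obtain ⟨a', rfl⟩ := hψ c
        rw [hθ, map_mul, hκ']
        have h3 : can h (incL k A B a) = a ⊗ₜ[k] (1 : C) := by
          change can h (a ⊗ₜ[B] (1 : A)) = _
          rw [can_tmul, map_one, mul_one]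
        have h4 : can h ((kappa k A B).ofConv a') = (1 : A) ⊗ₜ[k] ψ a' := h2 a'
        rw [h3, h4, Algebra.TensorProduct.tmul_mul_tmul, mul_one, one_mul]
    exact hri.surjective

end Bij

end K191.ExactSeq
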