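import Groth.Agent.Sga3.H790.HeightOneLocal
import Mathlib.RingTheory.Bialgebra.Quotient
import Mathlib.RingTheory.HopfAlgebra.Basic

/-!
# The kernel of Frobenius of a finite Hopf algebra over a field

`exists_generators'` is the library's `HeightOneField.exists_generators` with the number of generators recorded.
-/

set_option autoImplicit false

universe u

namespace K191.Frob

open TensorProduct Groth.Agent.Sga3.H790.InvDer Groth.Agent.Sga3.H790.HeightOneField
  Groth.Agent.Sga3.H790.HeightOneLocal

section Field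

variable {k B : Type*} [Field k] [CommRing B] [Bialgebra k B]

local notation "ε" => Bialgebra.counitAlgHom k B

/-- Main field case: finite-dimensional bialgebra of height one. -/
theorem exists_generators' (p : ℕ) [Fact p.Prime] [CharP k p] [Module.Finite k B]
    (h1 : ∀ a : B, ε a = 0 → a ^ p = 0) :
    ∃ x : Fin (Module.finrank k (J k B).Cotangent) → B, (∀ i, ε (x i) = 0) ∧
      (∀ f : MvPolynomial (Fin (Module.finrank k (J k B).Cotangent)) k, (∀ m ∈ f.support, ∀ i, m i < p) →
        MvPolynomial.aeval x f = 0 → f = 0) ∧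
      Function.Surjective (MvPolynomial.aeval (R := k) x) := by
  have hp : p ≠ 0 := (Fact.out : p.Prime).ne_zero
  have hnt : Nontrivial B := by
    refine ⟨0, 1, fun h => ?_⟩
    have := congrArg ε h
    rw [map_zero, map_one] at this
    exact zero_ne_one this
  have : IsNoetherianRing B := isNoetherian_of_isNoetherianRing_of_finite k B |> fun h =>
    isNoetherian_of_tower k h
  have : Module.Finite B (J k B) := Module.IsNoetherian.finite B (J k B)
  have : Module.Finite k (J k B).Cotangent := by
    have : Module.Finite B (J k B).Cotangent :=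
      Module.Finite.of_surjective _ (J k B).toCotangent_surjective
    exact Module.Finite.trans B _
  set n := Module.finrank k (J k B).Cotangent with hn
  let bas : Module.Basis (Fin n) k (J k B).Cotangent := Module.finBasis k (J k B).Cotangent
  choose y hy using fun i => (J k B).toCotangent_surjective (bas i)
  let x : Fin n → B := fun i => y i
  have hx : ∀ i, ε (x i) = 0 := fun i => (y i).2
  -- the invariant derivations
  let D : Fin n → Derivation k B B := fun i => invDer (pointDer (bas.coord i)) (pointDer_mul _)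
  have hD : ∀ i j, ε (D i (x j)) = if i = j then 1 else 0 := by
    intro i j
    rw [counit_invDer, pointDer_apply _ _ (hx j)]
    have : (⟨x j, hx j⟩ : J k B) = y j := rfl
    rw [this, hy, Module.Basis.coord_apply, Module.Basis.repr_self, Finsupp.single_apply]
    simp only [eq_comm]
  have hnil : ∀ b ∈ J k B, IsNilpotent b := fun b hb => ⟨p, h1 b hb⟩
  have hdet : IsUnit (Matrix.of fun i j => D i (x j)).det := by
    have h2 : ε (Matrix.of fun i j => D i (x j)).det = 1 := by
      rw [AlgHom.map_det]
      have : (Bialgebra.counitAlgHom k B).mapMatrix (Matrix.of fun i j => D i (x j)) = 1 := by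
        ext i j
        rw [AlgHom.mapMatrix_apply, Matrix.map_apply, Matrix.of_apply, hD, Matrix.one_apply]
      rw [this, Matrix.det_one]
    have h3 : (Matrix.of fun i j => D i (x j)).det - 1 ∈ J k B := by
      rw [RingHom.mem_ker, map_sub, map_one, h2, sub_self]
    have h4 := IsNilpotent.isUnit_one_add (hnil _ h3)
    rwa [add_sub_cancel] at h4
  obtain ⟨E, hE⟩ := exists_dual_derivations D x hdet
  refine ⟨x, hx, fun f hf h0 => eq_zero_of_aeval_eq_zero p x E hE _ f le_rfl hf h0, ?_⟩
  -- surjectivity
  have hspan : J k B = Ideal.span (Set.range x) := by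
    apply le_antisymm
    · apply Submodule.le_of_le_smul_of_le_jacobson_bot (I := J k B) (IsNoetherian.noetherian _)
      · intro b hb
        exact Ideal.radical_le_jacobson (hnil b hb)
      · intro b hb
        have h5 := bas.sum_repr ((J k B).toCotangent ⟨b, hb⟩)
        set c := bas.repr ((J k B).toCotangent ⟨b, hb⟩) with hc
        have h6 : (J k B).toCotangent (⟨b, hb⟩ - ∑ i, c i • y i) = 0 := by
          have : (J k B).toCotangent (∑ i, c i • y i) = ∑ i, c i • bas i := by
            rw [map_sum]
            refine Finset.sum_congr rfl fun i _ => ?_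
            rw [← hy]
            exact ((J k B).toCotangent.restrictScalars k).map_smul _ _
          rw [map_sub, this, h5, sub_self]
        rw [Ideal.toCotangent_eq_zero, pow_two] at h6
        have h7 : ((∑ i, c i • y i : J k B) : B) ∈ Ideal.span (Set.range x) := by
          rw [AddSubmonoidClass.coe_finsetSum]
          refine Ideal.sum_mem _ fun i _ => ?_
          rw [Submodule.coe_smul_of_tower]
          exact Submodule.smul_of_tower_mem _ _ (Ideal.subset_span ⟨i, rfl⟩)
        have h8 : b = ((∑ i, c i • y i : J k B) : B) +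
            ((⟨b, hb⟩ - ∑ i, c i • y i : J k B) : B) := by
          rw [AddSubgroupClass.coe_sub]
          ring
        rw [h8]
        exact Submodule.add_mem_sup h7 h6
    · rw [Ideal.span_le]
      rintro _ ⟨i, rfl⟩
      exact hx i
  rw [← AlgHom.range_eq_top]
  set S := (MvPolynomial.aeval (R := k) x).range with hS
  have hxS : ∀ i, x i ∈ S := fun i => ⟨MvPolynomial.X i, MvPolynomial.aeval_X x i⟩
  let a : Ideal S := Ideal.span (Set.range fun i => (⟨x i, hxS i⟩ : S))
  have ha : a ≤ Ideal.jacobson ⊥ := by
    rw [Ideal.span_le]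
    rintro _ ⟨i, rfl⟩
    apply Ideal.radical_le_jacobson
    refine ⟨p, ?_⟩
    rw [Ideal.mem_bot]
    apply Subtype.ext
    exact h1 _ (hx i)
  have hfin : Module.Finite S B := Module.Finite.of_restrictScalars_finite k S B
  have htop : (⊤ : Submodule S B) ≤ LinearMap.range (Algebra.linearMap S B) := by
    apply Submodule.le_of_le_smul_of_le_jacobson_bot hfin.fg_top ha
    intro b _
    have hb : (proj k B b : B) ∈ Ideal.span (Set.range x) := by
      rw [← hspan]; exact (proj k B b).2
    rw [Ideal.mem_span_range_iff_exists_fun] at hb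
    obtain ⟨c, hc⟩ := hb
    have hb2 : b = algebraMap k B (ε b) + ∑ i, c i * x i := by
      rw [hc, coe_proj]; ring
    rw [hb2]
    apply Submodule.add_mem_sup
    · exact ⟨algebraMap k S (ε b), rfl⟩
    · refine Submodule.sum_mem _ fun i _ => ?_
      have : c i * x i = (⟨x i, hxS i⟩ : S) • c i := by
        rw [mul_comm]; rfl
      rw [this]
      exact Submodule.smul_mem_smul (Ideal.subset_span ⟨i, rfl⟩) trivial
  rw [eq_top_iff]
  intro b _
  obtain ⟨s, hs⟩ := htop (show b ∈ (⊤ : Submodule S B) from trivial)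
  rw [← hs]
  exact s.2


/-- A finite-dimensional bialgebra of height one is a truncated polynomial algebra in as many variables as
the dimension of its cotangent space. -/
theorem nonempty_algEquiv' (p : ℕ) [Fact p.Prime] [CharP k p] [Module.Finite k B]
    (h1 : ∀ a : B, ε a = 0 → a ^ p = 0) :
    Nonempty (B ≃ₐ[k] (MvPolynomial (Fin (Module.finrank k (J k B).Cotangent)) k ⧸
      Ideal.span (Set.range fun i : Fin (Module.finrank k (J k B).Cotangent) =>
        (MvPolynomial.X i : MvPolynomial (Fin (Module.finrank k (J k B).Cotangent)) k) ^ p))) := by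
  obtain ⟨x, hx, hinj, hsurj⟩ := exists_generators' p h1
  have hxp : ∀ i, x i ^ p = 0 := fun i => h1 _ (hx i)
  have hle : ∀ f : MvPolynomial (Fin (Module.finrank k (J k B).Cotangent)) k, f ∈ Ideal.span
      (Set.range fun i : Fin (Module.finrank k (J k B).Cotangent) =>
      (MvPolynomial.X i : MvPolynomial (Fin (Module.finrank k (J k B).Cotangent)) k) ^ p) →
      MvPolynomial.aeval x f = 0 :=
    fun f hf => aeval_eq_zero_of_mem x hxp f hf
  let φ : (MvPolynomial (Fin (Module.finrank k (J k B).Cotangent)) k ⧸
      Ideal.span (Set.range fun i : Fin (Module.finrank k (J k B).Cotangent) =>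
        (MvPolynomial.X i : MvPolynomial (Fin (Module.finrank k (J k B).Cotangent)) k) ^ p))
      →ₐ[k] B := Ideal.Quotient.liftₐ _ (MvPolynomial.aeval x) hle
  refine ⟨(AlgEquiv.ofBijective φ ⟨?_, ?_⟩).symm⟩
  · rw [injective_iff_map_eq_zero]
    intro q hq
    obtain ⟨f, rfl⟩ := Ideal.Quotient.mk_surjective q
    have h0 : MvPolynomial.aeval x f = 0 := hq
    rw [Ideal.Quotient.eq_zero_iff_mem]
    rw [sum_filter_add p f]
    refine Ideal.add_mem _ ?_ (sum_not_mem p f)
    have h2 : MvPolynomial.aeval x (∑ m ∈ f.support.subtype (fun m => ∀ i, m i < p),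
        MvPolynomial.monomial m.1 (f.coeff m.1)) = 0 := by
      have h3 := h0
      rw [sum_filter_add p f, map_add, aeval_eq_zero_of_mem x hxp _ (sum_not_mem p f),
        add_zero] at h3
      exact h3
    rw [hinj _ ?_ h2]
    · exact Ideal.zero_mem _
    · intro m hm i
      classical
      obtain ⟨m', _, hm'⟩ := Finset.mem_biUnion.mp (MvPolynomial.support_sum hm)
      have h7 := MvPolynomial.support_monomial_subset hm'
      rw [Finset.mem_singleton] at h7
      rw [h7]
      exact m'.2 i
  · intro b
    obtain ⟨f, hf⟩ := hsurj b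
    exact ⟨Ideal.Quotient.mk _ f, hf⟩

end Field

section Quot

variable {k : Type u} {A : Type u} [Field k] [CommRing A] [Bialgebra k A] (p : ℕ) [Fact p.Prime]
  [CharP k p]

/-- The ideal of `p`-th powers. -/
abbrev FI (k : Type u) (A : Type u) [Field k] [CommRing A] [Bialgebra k A] (p : ℕ) : Ideal A :=
  Ideal.span ((fun a : A => a ^ p) '' (J k A : Set A))

omit [CharP k p] in
lemma FI_le : FI k A p ≤ J k A ^ 2 := by
  rw [Ideal.span_le]
  rintro _ ⟨a, ha, rfl⟩
  exact Ideal.pow_le_pow_right (Fact.out : p.Prime).two_le (Ideal.pow_mem_pow ha p)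

omit [CharP k p] in
lemma FI_le' : FI k A p ≤ J k A := (FI_le p).trans (Ideal.pow_le_self two_ne_zero)

/-- The counit of the quotient. -/
noncomputable def eps : (A ⧸ FI k A p) →ₐ[k] k :=
  Ideal.Quotient.liftₐ _ (Bialgebra.counitAlgHom k A) (fun _ ha => FI_le' p ha)

omit [CharP k p] in
lemma eps_mk (a : A) : eps (k := k) p (Ideal.Quotient.mk _ a) = Bialgebra.counitAlgHom k A a := rfl

lemma charP_of_point {B : Type u} [CommRing B] [Algebra k B] (e : B →ₐ[k] k) : CharP B p :=
  charP_of_injective_algebraMap (R := k)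
    (Function.LeftInverse.injective (g := e) fun c => by rw [AlgHom.commutes]; rfl) p

lemma quot_pow (b : A ⧸ FI k A p) : b ^ p = algebraMap k _ (eps p b ^ p) := by
  haveI : CharP (A ⧸ FI k A p) p := charP_of_point p (eps (k := k) p)
  obtain ⟨a, rfl⟩ := Ideal.Quotient.mk_surjective b
  have h1 : (Ideal.Quotient.mk (FI k A p) (a - algebraMap k A (Bialgebra.counitAlgHom k A a))) ^ p =
      0 := by
    rw [← map_pow, Ideal.Quotient.eq_zero_iff_mem]
    refine Ideal.subset_span ⟨_, ?_, rfl⟩
    rw [SetLike.mem_coe, RingHom.mem_ker, map_sub, AlgHom.commutes, sub_eq_zero]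
    rfl
  rw [map_sub, sub_pow_char, sub_eq_zero] at h1
  rw [h1, ← map_pow, eps_mk, ← map_pow]
  rfl

lemma isCoideal : ((FI k A p).restrictScalars k).IsCoideal := by
  set E : (A ⧸ FI k A p) ⊗[k] (A ⧸ FI k A p) →ₐ[k] k :=
    Algebra.TensorProduct.lift (eps p) (eps p) (fun _ _ => Commute.all _ _) with hE
  haveI : CharP ((A ⧸ FI k A p) ⊗[k] (A ⧸ FI k A p)) p := charP_of_point p E
  have hpow : ∀ z : (A ⧸ FI k A p) ⊗[k] (A ⧸ FI k A p), z ^ p = algebraMap k _ (E z ^ p) := by
    intro z
    induction z with
    | zero =>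
      rw [map_zero, zero_pow (Fact.out : p.Prime).ne_zero, zero_pow (Fact.out : p.Prime).ne_zero,
        map_zero]
    | tmul b c =>
      rw [Algebra.TensorProduct.tmul_pow, quot_pow p b, quot_pow p c, hE,
        Algebra.TensorProduct.lift_tmul, mul_pow, map_mul]
      rw [Algebra.TensorProduct.algebraMap_apply, Algebra.algebraMap_eq_smul_one,
        Algebra.algebraMap_eq_smul_one, Algebra.algebraMap_eq_smul_one, mul_smul_comm, mul_one,
        tmul_smul]
    | add x y hx hy => rw [add_pow_char, hx, hy, map_add, add_pow_char, map_add]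
  set Φ : A →ₐ[k] (A ⧸ FI k A p) ⊗[k] (A ⧸ FI k A p) :=
    (Algebra.TensorProduct.map (Ideal.Quotient.mkₐ k _) (Ideal.Quotient.mkₐ k _)).comp
      (Bialgebra.comulAlgHom k A) with hΦ
  have hEΦ : ∀ a, E (Φ a) = Bialgebra.counitAlgHom k A a := by
    intro a
    have h1 := Coalgebra.rTensor_counit_comul (R := k) a
    have h2 : ∀ z : A ⊗[k] A, E (Algebra.TensorProduct.map (Ideal.Quotient.mkₐ k (FI k A p))
        (Ideal.Quotient.mkₐ k (FI k A p)) z) =
        Bialgebra.counitAlgHom k A (TensorProduct.lid k A (CoalgebraStruct.counit.rTensor A z)) := by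
      intro z
      induction z with
      | zero => simp
      | add x y hx hy => rw [map_add, map_add, hx, hy, map_add, map_add, map_add]
      | tmul b c =>
        rw [Algebra.TensorProduct.map_tmul, hE, Algebra.TensorProduct.lift_tmul,
          LinearMap.rTensor_tmul, lid_tmul, map_smul]
        rfl
    rw [hΦ, AlgHom.comp_apply, h2]
    have h3 : CoalgebraStruct.counit.rTensor A (Bialgebra.comulAlgHom k A a) = 1 ⊗ₜ a := h1
    rw [h3, lid_tmul, one_smul]
  have hker : FI k A p ≤ RingHom.ker Φ := by
    rw [Ideal.span_le]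
    rintro _ ⟨a, ha, rfl⟩
    rw [SetLike.mem_coe, RingHom.mem_ker, map_pow, hpow, hEΦ]
    have ha' : Bialgebra.counitAlgHom k A a = 0 := ha
    rw [ha', zero_pow (Fact.out : p.Prime).ne_zero, map_zero]
  refine ⟨fun x hx => FI_le' p hx, fun x hx => ?_⟩
  exact hker hx

end Quot

section Main

variable {k : Type u} {A : Type u} [Field k] [CommRing A] [Bialgebra k A] (p : ℕ) [Fact p.Prime]
  [CharP k p]

theorem main [Module.Finite k A] :
    Nonempty ((A ⧸ FI k A p) ≃ₐ[k] (MvPolynomial (Fin (Module.finrank k (J k A).Cotangent)) k ⧸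
      Ideal.span (Set.range fun i : Fin (Module.finrank k (J k A).Cotangent) =>
        (MvPolynomial.X i : MvPolynomial (Fin (Module.finrank k (J k A).Cotangent)) k) ^ p))) := by
  haveI := isCoideal (k := k) (A := A) p
  have hmem : ∀ a : A, Bialgebra.counitAlgHom k (A ⧸ FI k A p) (Ideal.Quotient.mk _ a) =
    Bialgebra.counitAlgHom k A a := fun a => rfl
  have hJ : J k (A ⧸ FI k A p) = (J k A).map (Ideal.Quotient.mk (FI k A p)) := by
    apply le_antisymm
    · intro b hb
      obtain ⟨a, rfl⟩ := Ideal.Quotient.mk_surjective b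
      exact Ideal.mem_map_of_mem _ (show a ∈ J k A from hb)
    · rw [Ideal.map_le_iff_le_comap]
      intro a ha
      exact ha
  have hle : J k A ≤ (J k (A ⧸ FI k A p)).comap (Ideal.Quotient.mkₐ k (FI k A p)) := fun a ha => ha
  have hbij : Function.Bijective (Ideal.mapCotangent (J k A) (J k (A ⧸ FI k A p))
      (Ideal.Quotient.mkₐ k (FI k A p)) hle) := by
    constructor
    · rw [injective_iff_map_eq_zero]
      intro c hc
      obtain ⟨a, rfl⟩ := (J k A).toCotangent_surjective c
      rw [Ideal.mapCotangent_toCotangent, Ideal.toCotangent_eq_zero] at hc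
      rw [Ideal.toCotangent_eq_zero]
      have hc' : Ideal.Quotient.mk (FI k A p) (a : A) ∈ (J k A ^ 2).map (Ideal.Quotient.mk _) := by
        rw [Ideal.map_pow, ← hJ]
        exact hc
      obtain ⟨b, hb, hab⟩ := (Ideal.mem_map_iff_of_surjective _ Ideal.Quotient.mk_surjective).1 hc'
      have h1 : (a : A) - b ∈ FI k A p := by
        rw [← Ideal.Quotient.eq, hab]
      have h2 := (J k A ^ 2).add_mem (FI_le p h1) hb
      rwa [sub_add_cancel] at h2
    · intro c
      obtain ⟨⟨b, hb⟩, rfl⟩ := (J k (A ⧸ FI k A p)).toCotangent_surjective c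
      obtain ⟨a, rfl⟩ := Ideal.Quotient.mk_surjective b
      exact ⟨(J k A).toCotangent ⟨a, hb⟩, rfl⟩
  have hrank : Module.finrank k (J k A).Cotangent =
      Module.finrank k (J k (A ⧸ FI k A p)).Cotangent :=
    (LinearEquiv.ofBijective _ hbij).finrank_eq
  rw [hrank]
  refine nonempty_algEquiv' (B := A ⧸ FI k A p) p fun b hb => ?_
  obtain ⟨a, rfl⟩ := Ideal.Quotient.mk_surjective b
  rw [← map_pow, Ideal.Quotient.eq_zero_iff_mem]
  exact Ideal.subset_span ⟨a, hb, rfl⟩

end Main

end K191.Frob
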