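import Groth.Agent.HopfRep.K191.Reductive
import Mathlib.RingTheory.Flat.FaithfullyFlat.Basic
import Mathlib.RingTheory.TensorProduct.IncludeLeftSubRight

/-!
# Galois extensions for a quotient Hopf algebra and descent of linear reductivity

`ψ : A → C` a map of commutative Hopf algebras, `B → A` an algebra of coinvariants.
* `rho ψ : A → A ⊗ C`, the right coaction;
* `can ψ : A ⊗_B A → A ⊗ C`, the canonical map;
* `isLinearlyReductive_of_galois`: if `A` is linearly reductive and faithfully flat over `B`, with `can` bijective,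
  then `C` is linearly reductive.
-/

set_option autoImplicit false

universe u v w w'

open TensorProduct HopfRep

namespace K191.Galois

open Groth.Agent.Books.ComodBasic Groth.Agent.Books.ComodHom Groth.Agent.Books.CoeffMat
  Groth.Agent.Books.ComodInv K191.Integral K191.Reductive

section Rho

variable {k : Type u} {A : Type v} {C : Type w} [Field k] [CommRing A] [HopfAlgebra k A]
  [CommRing C] [HopfAlgebra k C] (ψ : A →ₐc[k] C)

/-- The right coaction of `C` on `A`. -/
noncomputable def rho : A →ₐ[k] A ⊗[k] C :=
  (Algebra.TensorProduct.map (AlgHom.id k A) (ψ : A →ₐ[k] C)).comp (Bialgebra.comulAlgHom k A)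

lemma rho_apply (a : A) : rho ψ a = (ψ : A →ₐ[k] C).toLinearMap.lTensor A
    (CoalgebraStruct.comul (R := k) a) := rfl

/-- Coassociativity of the coaction. -/
lemma rho_coassoc (a : A) :
    TensorProduct.assoc k A C C ((rho ψ).toLinearMap.rTensor C (rho ψ a)) =
      (CoalgebraStruct.comul (R := k) (A := C)).lTensor A (rho ψ a) := by
  have h1 := Coalgebra.coassoc_apply (R := k) a
  have h2 : ∀ x : A ⊗[k] A, TensorProduct.assoc k A C C
      ((rho ψ).toLinearMap.rTensor C ((ψ : A →ₐ[k] C).toLinearMap.lTensor A x)) =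
      (TensorProduct.map (ψ : A →ₐ[k] C).toLinearMap (ψ : A →ₐ[k] C).toLinearMap).lTensor A
        (TensorProduct.assoc k A A A ((CoalgebraStruct.comul (R := k) (A := A)).rTensor A x)) := by
    intro x
    induction x with
    | zero => simp
    | add x y hx hy => simp only [map_add, hx, hy]
    | tmul x y =>
      rw [LinearMap.lTensor_tmul, LinearMap.rTensor_tmul, LinearMap.rTensor_tmul,
        AlgHom.toLinearMap_apply, rho_apply]
      generalize CoalgebraStruct.comul (R := k) x = z
      induction z with
      | zero => simp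
      | add z z' hz hz' => simp only [map_add, add_tmul, hz, hz']
      | tmul b c => rfl
  have h3 : ∀ x : A ⊗[k] A, (CoalgebraStruct.comul (R := k) (A := C)).lTensor A
      ((ψ : A →ₐ[k] C).toLinearMap.lTensor A x) =
      (TensorProduct.map (ψ : A →ₐ[k] C).toLinearMap (ψ : A →ₐ[k] C).toLinearMap).lTensor A
        ((CoalgebraStruct.comul (R := k) (A := A)).lTensor A x) := by
    intro x
    rw [← LinearMap.comp_apply, ← LinearMap.comp_apply, ← LinearMap.lTensor_comp,
      ← LinearMap.lTensor_comp]
    congr 2
    exact (CoalgHomClass.map_comp_comul ψ).symm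
  rw [rho_apply, h2, h3]
  exact congrArg _ h1

/-- Counitality. -/
lemma counit_rho (a : A) : TensorProduct.rid k A
    ((CoalgebraStruct.counit (R := k) (A := C)).lTensor A (rho ψ a)) = a := by
  rw [rho_apply, ← LinearMap.comp_apply, ← LinearMap.lTensor_comp]
  have h : CoalgebraStruct.counit (R := k) (A := C) ∘ₗ (ψ : A →ₐ[k] C).toLinearMap =
    CoalgebraStruct.counit (R := k) (A := A) := CoalgHomClass.counit_comp ψ
  rw [h]
  have h2 := Coalgebra.lTensor_counit_comul (R := k) a
  have h3 : (CoalgebraStruct.counit (R := k) (A := A)).lTensor A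
    (CoalgebraStruct.comul (R := k) a) = a ⊗ₜ[k] (1 : k) := h2
  rw [h3, rid_tmul, one_smul]

/-- Integrals and the coaction. -/
lemma int_rho {α : A →ₗ[k] k} (hα : IsInt α) (a : A) :
    α.rTensor C (rho ψ a) = α a ⊗ₜ[k] (1 : C) := by
  have h := congrArg ((ψ : A →ₐ[k] C).toLinearMap.lTensor k) (hα a)
  rw [LinearMap.lTensor_tmul, AlgHom.toLinearMap_apply, map_one] at h
  rw [← h, rho_apply]
  generalize CoalgebraStruct.comul (R := k) a = z
  induction z with
  | zero => simp
  | add x y hx hy => simp only [map_add, hx, hy]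
  | tmul x y => rfl

end Rho

section Can

variable {k : Type u} {A : Type v} {C : Type w} [Field k] [CommRing A] [HopfAlgebra k A]
  [CommRing C] [HopfAlgebra k C] (ψ : A →ₐc[k] C)
variable (B : Type w') [CommRing B] [Algebra k B] [Algebra B A] [IsScalarTower k B A]

/-- The elements of `B` are coinvariant. -/
def Coinv : Prop := ∀ b : B, rho ψ (algebraMap B A b) = algebraMap B A b ⊗ₜ[k] (1 : C)

variable {ψ B}

/-- The coaction as a `B`-algebra map. -/
noncomputable def rhoB (h : Coinv ψ B) : A →ₐ[B] A ⊗[k] C :=
  { (rho ψ).toRingHom with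
    commutes' := fun b => h b }

@[simp] lemma rhoB_apply (h : Coinv ψ B) (a : A) : rhoB h a = rho ψ a := rfl

/-- The canonical map `A ⊗_B A → A ⊗ C`, `a ⊗ a' ↦ (a ⊗ 1) ρ(a')`. -/
noncomputable def can (h : Coinv ψ B) : A ⊗[B] A →ₐ[A] A ⊗[k] C :=
  Algebra.TensorProduct.lift (Algebra.ofId A (A ⊗[k] C)) (rhoB h) fun _ _ => Commute.all _ _

lemma can_tmul (h : Coinv ψ B) (a a' : A) : can h (a ⊗ₜ[B] a') = (a ⊗ₜ[k] (1 : C)) * rho ψ a' := by
  rw [can, Algebra.TensorProduct.lift_tmul]
  rfl

/-- Auxiliary map `A ⊗_B (A ⊗ C) → (A ⊗ C) ⊗ C`, `a ⊗ (a' ⊗ c) ↦ can (a ⊗ a') ⊗ c`. -/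
noncomputable def theta2 (h : Coinv ψ B) : A ⊗[B] (A ⊗[k] C) →ₗ[k] (A ⊗[k] C) ⊗[k] C :=
  ((can h).toLinearMap.restrictScalars k).rTensor C ∘ₗ
    ((AlgebraTensorModule.assoc k B B A A C).symm.toLinearMap.restrictScalars k)

lemma theta2_tmul_tmul (h : Coinv ψ B) (a a' : A) (c : C) :
    theta2 h (a ⊗ₜ[B] (a' ⊗ₜ[k] c)) = can h (a ⊗ₜ[B] a') ⊗ₜ[k] c := rfl

lemma theta2_injective (h : Coinv ψ B) (hi : Function.Injective (can h)) :
    Function.Injective (theta2 h) := by
  rw [theta2, LinearMap.coe_comp]
  refine Function.Injective.comp ?_ ?_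
  · exact Module.Flat.rTensor_preserves_injective_linearMap _ hi
  · exact (AlgebraTensorModule.assoc k B B A A C).symm.injective

lemma theta2_tmul (h : Coinv ψ B) (a : A) (y : A ⊗[k] C) :
    theta2 h (a ⊗ₜ[B] y) = ((a ⊗ₜ[k] (1 : C)) ⊗ₜ[k] (1 : C)) * (rho ψ).toLinearMap.rTensor C y := by
  induction y with
  | zero => simp
  | add x y hx hy => rw [tmul_add, map_add, hx, hy, map_add, mul_add]
  | tmul x c =>
    rw [theta2_tmul_tmul, can_tmul, LinearMap.rTensor_tmul, Algebra.TensorProduct.tmul_mul_tmul,
      one_mul, AlgHom.toLinearMap_apply]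

lemma lTensor_comul_mul (a : A) (y : A ⊗[k] C) :
    (TensorProduct.assoc k A C C).symm ((CoalgebraStruct.comul (R := k) (A := C)).lTensor A
      ((a ⊗ₜ[k] (1 : C)) * y)) = ((a ⊗ₜ[k] (1 : C)) ⊗ₜ[k] (1 : C)) *
        (TensorProduct.assoc k A C C).symm
          ((CoalgebraStruct.comul (R := k) (A := C)).lTensor A y) := by
  induction y with
  | zero => simp
  | add x y hx hy => rw [mul_add, map_add, map_add, hx, hy, map_add, map_add, mul_add]
  | tmul x c =>
    rw [Algebra.TensorProduct.tmul_mul_tmul, one_mul, LinearMap.lTensor_tmul, LinearMap.lTensor_tmul]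
    generalize CoalgebraStruct.comul (R := k) c = z
    induction z with
    | zero => simp
    | add x y hx hy => rw [tmul_add, map_add, hx, hy, tmul_add, map_add, mul_add]
    | tmul d e =>
      rw [assoc_symm_tmul, assoc_symm_tmul, Algebra.TensorProduct.tmul_mul_tmul,
        Algebra.TensorProduct.tmul_mul_tmul, one_mul, one_mul]

lemma theta2_lTensor_rho (h : Coinv ψ B) (z : A ⊗[B] A) :
    theta2 h ((rhoB h).toLinearMap.lTensor A z) =
      (TensorProduct.assoc k A C C).symm
        ((CoalgebraStruct.comul (R := k) (A := C)).lTensor A (can h z)) := by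
  induction z with
  | zero => simp
  | add x y hx hy => simp only [map_add, hx, hy]
  | tmul a a' =>
    rw [LinearMap.lTensor_tmul, theta2_tmul, can_tmul, lTensor_comul_mul, ← rho_coassoc,
      LinearEquiv.symm_apply_apply]
    rfl

end Can

section Inv

variable {k : Type u} {A : Type v} {C : Type w} [Field k] [CommRing A] [HopfAlgebra k A]
  [CommRing C] [HopfAlgebra k C] {ψ : A →ₐc[k] C}
variable {B : Type w'} [CommRing B] [Algebra k B] [Algebra B A] [IsScalarTower k B A]

/-- Coinvariants of `A` come from `B`. -/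
lemma exists_algebraMap_eq [Module.FaithfullyFlat B A] (h : Coinv ψ B)
    (hi : Function.Injective (can h)) {a : A} (ha : rho ψ a = a ⊗ₜ[k] (1 : C)) :
    ∃ b : B, algebraMap B A b = a := by
  have h1 : a ⊗ₜ[B] (1 : A) = (1 : A) ⊗ₜ[B] a := by
    apply hi
    rw [can_tmul, can_tmul, map_one, ha, mul_one]
    exact (one_mul _).symm
  exact ((Algebra.IsEffective.of_faithfullyFlat B A) a).1
    ((Algebra.TensorProduct.includeLeftSubRight_apply a).trans (sub_eq_zero.2 h1))

/-- `a ↦ a ⊗ c` as a `B`-linear map. -/
noncomputable def mulC (B : Type w') [CommRing B] [Algebra k B] [Algebra B A] [IsScalarTower k B A]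
    (c : C) : A →ₗ[B] A ⊗[k] C where
  toFun a := a ⊗ₜ c
  map_add' x y := add_tmul x y c
  map_smul' _ _ := rfl

@[simp] lemma mulC_apply (c : C) (a : A) : mulC (k := k) B c a = a ⊗ₜ[k] c := rfl

variable {ι : Type*} [Fintype ι] [DecidableEq ι]

/-- The `l`-th equation for invariants. -/
noncomputable def eqn (h : Coinv ψ B) (s : Matrix ι ι C) (l : ι) : (ι → A) →ₗ[B] A ⊗[k] C :=
  (rhoB h).toLinearMap ∘ₗ LinearMap.proj l - ∑ i, mulC B (s l i) ∘ₗ LinearMap.proj i

lemma eqn_apply (h : Coinv ψ B) (s : Matrix ι ι C) (l : ι) (x : ι → A) :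
    eqn h s l x = rho ψ (x l) - ∑ i, x i ⊗ₜ[k] s l i := by
  simp [eqn]

/-- All equations. -/
noncomputable def eqns (h : Coinv ψ B) (s : Matrix ι ι C) : (ι → A) →ₗ[B] (ι → A ⊗[k] C) :=
  LinearMap.pi fun l => eqn h s l

/-- The invariants of `A ⊗ V`. -/
noncomputable def invMod (h : Coinv ψ B) (s : Matrix ι ι C) : Submodule B (ι → A) :=
  LinearMap.ker (eqns h s)

lemma mem_invMod (h : Coinv ψ B) (s : Matrix ι ι C) (x : ι → A) :
    x ∈ invMod h s ↔ ∀ l, rho ψ (x l) = ∑ i, x i ⊗ₜ[k] s l i := by
  rw [invMod, LinearMap.mem_ker, funext_iff]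
  refine forall_congr' fun l => ?_
  rw [eqns, LinearMap.pi_apply, eqn_apply, Pi.zero_apply, sub_eq_zero]

/-- The multiplication `A ⊗_B A^ι → A^ι`. -/
noncomputable def mulVec (A : Type v) [CommRing A] (B : Type w') [CommRing B] [Algebra B A]
    (ι : Type*) : A ⊗[B] (ι → A) →ₗ[B] (ι → A) :=
  TensorProduct.lift ((Algebra.lsmul B B (ι → A)).toLinearMap)

lemma mulVec_tmul (a : A) (x : ι → A) : mulVec A B ι (a ⊗ₜ x) = a • x := rfl

/-- The elements of `A^ι` obtained from invariants generate. -/
theorem mem_span_invMod [Module.Flat B A] (h : Coinv ψ B) (hb : Function.Bijective (can h))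
    {m : Matrix ι ι C} (hm : IsMult k m) (g : ι → A) :
    g ∈ Submodule.span A (invMod h (antipodeMat k m) : Set (ι → A)) := by
  set s := antipodeMat k m with hs
  have hsc : ∀ i j, CoalgebraStruct.comul (R := k) (s i j) = ∑ l, s l j ⊗ₜ[k] s i l := by
    intro i j
    rw [hs, antipodeMat, Matrix.map_apply, comul_antipode hm]
    rfl
  have hse : ∀ i j, CoalgebraStruct.counit (R := k) (s i j) = if i = j then 1 else 0 := by
    intro i j
    rw [hs, antipodeMat, Matrix.map_apply]
    exact (HopfAlgebra.counit_antipode _).trans (hm.counit i j)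
  choose z hz using fun j => hb.2 (∑ i, g i ⊗ₜ[k] s j i)
  -- the invariance equation for `z`
  have hz2 : ∀ l, (rhoB h).toLinearMap.lTensor A (z l) = ∑ i, (mulC B (s l i)).lTensor A (z i) := by
    intro l
    apply theta2_injective h hb.1
    rw [theta2_lTensor_rho, hz, map_sum, map_sum, map_sum]
    have h1 : ∀ (c : C) (y : A ⊗[B] A), theta2 h ((mulC B c).lTensor A y) = can h y ⊗ₜ[k] c := by
      intro c y
      induction y with
      | zero => simp
      | add x y hx hy => simp only [map_add, hx, hy, add_tmul]
      | tmul a a' => rw [LinearMap.lTensor_tmul, mulC_apply, theta2_tmul_tmul]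
    simp only [h1, hz, LinearMap.lTensor_tmul, hsc, tmul_sum, map_sum, assoc_symm_tmul, sum_tmul]
    exact Finset.sum_comm
  -- the element of `A ⊗ A^ι`
  let z' : A ⊗[B] (ι → A) := ∑ j, (LinearMap.single B (fun _ : ι => A) j).lTensor A (z j)
  have hz' : (eqns h s).lTensor A z' = 0 := by
    have h2 : eqns h s = ∑ l, LinearMap.single B (fun _ : ι => A ⊗[k] C) l ∘ₗ eqn h s l := by
      refine LinearMap.ext fun x => funext fun l => ?_
      rw [eqns, LinearMap.pi_apply, LinearMap.sum_apply, Finset.sum_apply,
        Finset.sum_eq_single l]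
      · simp
      · intro j _ hj
        simp [hj.symm]
      · intro hl
        exact absurd (Finset.mem_univ l) hl
    have h3 : ∀ l, (eqn h s l).lTensor A z' = 0 := by
      intro l
      have h4 : ∀ j, eqn h s l ∘ₗ LinearMap.single B (fun _ : ι => A) j =
          (if l = j then (rhoB h).toLinearMap else 0) - mulC B (s l j) := by
        intro j
        refine LinearMap.ext fun a => ?_
        rw [LinearMap.comp_apply, eqn_apply, LinearMap.sub_apply, mulC_apply, LinearMap.coe_single,
          Finset.sum_eq_single j]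
        · rw [Pi.single_eq_same]
          congr 1
          split_ifs with hlj
          · subst hlj
            simp
          · rw [Pi.single_eq_of_ne hlj, map_zero, LinearMap.zero_apply]
        · intro i _ hi
          rw [Pi.single_eq_of_ne hi, zero_tmul]
        · intro hl
          exact absurd (Finset.mem_univ j) hl
      have h5 : (eqn h s l).lTensor A z' = ∑ j, (eqn h s l ∘ₗ
          LinearMap.single B (fun _ : ι => A) j).lTensor A (z j) := by
        rw [map_sum]
        refine Finset.sum_congr rfl fun j _ => ?_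
        rw [LinearMap.lTensor_comp, LinearMap.comp_apply]
      rw [h5]
      simp only [h4, LinearMap.lTensor_sub, LinearMap.sub_apply, Finset.sum_sub_distrib, ← hz2]
      rw [Finset.sum_eq_single l]
      · rw [if_pos rfl, sub_self]
      · intro j _ hj
        rw [if_neg hj.symm, LinearMap.lTensor_zero, LinearMap.zero_apply]
      · intro hl
        exact absurd (Finset.mem_univ l) hl
    rw [h2]
    have h6 : (∑ l, LinearMap.single B (fun _ : ι => A ⊗[k] C) l ∘ₗ eqn h s l).lTensor A =
        ∑ l, (LinearMap.single B (fun _ : ι => A ⊗[k] C) l ∘ₗ eqn h s l).lTensor A := by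
      exact map_sum (LinearMap.lTensorHom A) _ _
    rw [h6, LinearMap.sum_apply]
    refine Finset.sum_eq_zero fun l _ => ?_
    rw [LinearMap.lTensor_comp, LinearMap.comp_apply, h3, map_zero]
  have hex : Function.Exact ((invMod h s).subtype.lTensor A) ((eqns h s).lTensor A) := by
    refine Module.Flat.lTensor_exact A ?_
    intro x
    rw [invMod]
    constructor
    · intro hx
      exact ⟨⟨x, hx⟩, rfl⟩
    · rintro ⟨y, rfl⟩
      exact y.2
  obtain ⟨y, hy⟩ := (hex z').1 hz'
  have hmul : mulVec A B ι z' = g := by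
    rw [map_sum]
    have h7 : ∀ (j : ι) (y : A ⊗[B] A), mulVec A B ι ((LinearMap.single B (fun _ : ι => A) j).lTensor A
        y) = Pi.single j (TensorProduct.rid k A ((CoalgebraStruct.counit (R := k)
          (A := C)).lTensor A (can h y))) := by
      intro j y
      induction y with
      | zero => simp
      | add x y hx hy => simp only [map_add, hx, hy, Pi.single_add]
      | tmul a a' =>
        rw [LinearMap.lTensor_tmul, mulVec_tmul, LinearMap.coe_single, can_tmul, ← Pi.single_smul]
        congr 1
        conv_lhs => rw [← counit_rho ψ a']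
        generalize rho ψ a' = w
        induction w with
        | zero => simp
        | add x y hx hy => simp only [map_add, mul_add, hx, hy, smul_add]
        | tmul d e =>
          rw [Algebra.TensorProduct.tmul_mul_tmul, LinearMap.lTensor_tmul, LinearMap.lTensor_tmul,
            rid_tmul, rid_tmul, one_mul, smul_eq_mul, mul_smul_comm]
    simp only [h7, hz, map_sum, LinearMap.lTensor_tmul, rid_tmul, hse]
    refine funext fun l => ?_
    rw [Finset.sum_apply, Finset.sum_eq_single l]
    · rw [Pi.single_eq_same, Finset.sum_eq_single l]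
      · simp
      · intro i _ hi
        rw [if_neg hi.symm, zero_smul]
      · intro hl
        exact absurd (Finset.mem_univ l) hl
    · intro j _ hj
      rw [Pi.single_eq_of_ne hj.symm]
    · intro hl
      exact absurd (Finset.mem_univ l) hl
  rw [← hmul, ← hy]
  clear hmul hy hz'
  induction y with
  | zero => simp
  | add x y hx hy => simp only [map_add]; exact Submodule.add_mem _ hx hy
  | tmul a x =>
    rw [LinearMap.lTensor_tmul, mulVec_tmul]
    exact Submodule.smul_mem _ _ (Submodule.subset_span x.2)

/-- The linear form `x ↦ ∑ c_j x_j`. -/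
noncomputable def formB (B : Type w') [CommRing B] [Algebra k B] [Algebra B A] [IsScalarTower k B A]
    (c : ι → k) : (ι → A) →ₗ[B] A where
  toFun x := ∑ j, c j • x j
  map_add' x y := by simp only [Pi.add_apply, smul_add, Finset.sum_add_distrib]
  map_smul' b x := by
    rw [RingHom.id_apply, Finset.smul_sum]
    refine Finset.sum_congr rfl fun j _ => ?_
    rw [Pi.smul_apply, Algebra.smul_def b, Algebra.smul_def b, mul_smul_comm]

omit [DecidableEq ι] in
lemma formB_apply (c : ι → k) (x : ι → A) : formB B c x = ∑ j, c j • x j := rfl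

/-- For a nonzero invariant form there is an invariant with value `1`. -/
theorem exists_inv_form_eq_one [Module.FaithfullyFlat B A] (h : Coinv ψ B)
    (hb : Function.Bijective (can h)) {m : Matrix ι ι C} (hm : IsMult k m) (c : ι → k)
    (hc : ∀ j, ∑ i, c i • m i j = c j • (1 : C)) (hc0 : c ≠ 0) :
    ∃ x ∈ invMod h (antipodeMat k m), ∑ j, c j • x j = 1 := by
  have hcs : ∀ i, ∑ j, c j • antipodeMat k m j i = c i • (1 : C) := by
    intro i
    calc ∑ j, c j • antipodeMat k m j i = ∑ j, (c j • (1 : C)) * antipodeMat k m j i := by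
          simp only [smul_mul_assoc, one_mul]
      _ = ∑ j, ∑ l, c l • (m l j * antipodeMat k m j i) := by
          refine Finset.sum_congr rfl fun j _ => ?_
          rw [← hc, Finset.sum_mul]
          simp only [smul_mul_assoc]
      _ = ∑ l, c l • (if l = i then (1 : C) else 0) := by
          rw [Finset.sum_comm]
          refine Finset.sum_congr rfl fun l _ => ?_
          rw [← Finset.smul_sum]
          congr 1
          have h1 := congrFun (congrFun hm.mul_antipodeMat l) i
          rw [Matrix.mul_apply, Matrix.one_apply] at h1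
          exact h1
      _ = c i • (1 : C) := by simp
  -- values on invariants are coinvariant
  have hval : ∀ x ∈ invMod h (antipodeMat k m), ∃ b : B, algebraMap B A b = ∑ j, c j • x j := by
    intro x hx
    apply exists_algebraMap_eq h hb.1
    rw [mem_invMod] at hx
    rw [map_sum]
    simp only [map_smul, hx, Finset.smul_sum]
    rw [Finset.sum_comm, sum_tmul]
    refine Finset.sum_congr rfl fun i _ => ?_
    simp only [← tmul_smul, ← tmul_sum]
    rw [hcs, tmul_smul, smul_tmul']
  let I : Ideal B := ((invMod h (antipodeMat k m)).map (formB (k := k) B c)).comap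
    (Algebra.linearMap B A)
  have hI : I = ⊤ := by
    by_contra hne
    have hp := Module.FaithfullyFlat.iff_flat_and_proper_ideal B A |>.1 inferInstance |>.2 I hne
    apply hp
    rw [Submodule.eq_top_iff']
    obtain ⟨j₀, hj₀⟩ : ∃ j, c j ≠ 0 := by
      by_contra h'
      push Not at h'
      exact hc0 (funext h')
    have hg := mem_span_invMod h hb hm (Pi.single j₀ (algebraMap k A (c j₀)⁻¹))
    have h2 : ∀ g : ι → A, g ∈ Submodule.span A (invMod h (antipodeMat k m) : Set (ι → A)) →
        (∑ j, c j • g j) ∈ (I • ⊤ : Submodule B A) := by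
      intro g hg
      induction hg using Submodule.span_induction with
      | mem x hx =>
        obtain ⟨b, hb'⟩ := hval x hx
        rw [← hb']
        have : algebraMap B A b = b • (1 : A) := by rw [Algebra.smul_def, mul_one]
        rw [this]
        refine Submodule.smul_mem_smul ?_ trivial
        refine ⟨x, hx, ?_⟩
        rw [formB_apply]
        exact hb'.symm
      | zero => simp
      | add x y _ _ hx hy =>
        simp only [Pi.add_apply, smul_add, Finset.sum_add_distrib]
        exact Submodule.add_mem _ hx hy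
      | smul a x _ hx =>
        have h3 : ∑ j, c j • (a • x) j = a * ∑ j, c j • x j := by
          rw [Finset.mul_sum]
          refine Finset.sum_congr rfl fun j _ => ?_
          rw [Pi.smul_apply, smul_eq_mul, mul_smul_comm]
        rw [h3]
        refine Submodule.smul_induction_on (p := fun y => a * y ∈ (I • ⊤ : Submodule B A)) hx
          (fun r hr n _ => ?_) (fun x y hx hy => ?_)
        · rw [mul_smul_comm]
          exact Submodule.smul_mem_smul hr trivial
        · change a * (x + y) ∈ _
          rw [mul_add]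
          exact Submodule.add_mem _ hx hy
    have h4 := h2 _ hg
    have h5 : (∑ j, c j • (Pi.single j₀ (algebraMap k A (c j₀)⁻¹) : ι → A) j) = 1 := by
      rw [Finset.sum_eq_single j₀]
      · rw [Pi.single_eq_same, Algebra.smul_def, ← map_mul, mul_inv_cancel₀ hj₀, map_one]
      · intro j _ hj
        rw [Pi.single_eq_of_ne hj, smul_zero]
      · intro hl
        exact absurd (Finset.mem_univ j₀) hl
    rw [h5] at h4
    intro a
    refine (?_ : a * 1 ∈ (I • ⊤ : Submodule B A)) |> fun h => by rwa [mul_one] at h
    refine Submodule.smul_induction_on (p := fun y => a * y ∈ (I • ⊤ : Submodule B A)) h4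
      (fun r hr n _ => ?_) (fun x y hx hy => ?_)
    · rw [mul_smul_comm]
      exact Submodule.smul_mem_smul hr trivial
    · change a * (x + y) ∈ _
      rw [mul_add]
      exact Submodule.add_mem _ hx hy
  have h1 : (1 : B) ∈ I := by rw [hI]; trivial
  obtain ⟨x, hx, hx1⟩ := h1
  refine ⟨x, hx, ?_⟩
  rw [formB_apply] at hx1
  rw [hx1]
  exact map_one (algebraMap B A)

end Inv

section Main

variable {k : Type u} {A C : Type v} [Field k] [CommRing A] [HopfAlgebra k A]
  [CommRing C] [HopfAlgebra k C] {ψ : A →ₐc[k] C}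
variable {B : Type w'} [CommRing B] [Algebra k B] [Algebra B A] [IsScalarTower k B A]

/-- **Descent of linear reductivity along Galois extensions.** -/
theorem isLinearlyReductive_of_galois [Module.FaithfullyFlat B A] (h : Coinv ψ B)
    (hb : Function.Bijective (can h)) (hG : IsLinearlyReductive k A) : IsLinearlyReductive k C := by
  rw [isLinearlyReductive_iff_lift]
  obtain ⟨α, hα, hα1⟩ := exists_isInt hG
  intro V _ _ _ hfin f hf hf0
  classical
  let b := Module.finBasis k V
  let m := coeffMat C b
  have hbm : ∀ j, Comod.coact (k := k) (A := C) (b j) = ∑ i, b i ⊗ₜ[k] m i j := coact_basis C b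
  have hm : IsMult k m := coeffMat_isMult C b
  have hc := (invForm_iff_coord b hbm f).1 hf
  have hc0 : (fun j => f (b j)) ≠ 0 := by
    intro h0
    exact hf0 (b.ext fun j => congrFun h0 j)
  obtain ⟨x, hx, hx1⟩ := exists_inv_form_eq_one h hb hm (fun j => f (b j)) hc hc0
  rw [mem_invMod] at hx
  -- apply the integral
  have h2 : ∀ l, ∑ i, α (x i) • antipodeMat k m l i = α (x l) • (1 : C) := by
    intro l
    have h3 := congrArg (fun y => TensorProduct.lid k C (α.rTensor C y)) (hx l)
    simp only [int_rho ψ hα, lid_tmul, map_sum, LinearMap.rTensor_tmul] at h3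
    exact h3.symm
  refine ⟨∑ j, α (x j) • b j, ?_, ?_⟩
  · rw [mem_fixedPts_iff_coord b hbm]
    intro i
    calc ∑ j, α (x j) • m i j = ∑ j, m i j * (α (x j) • (1 : C)) := by
          simp only [mul_smul_comm, mul_one]
      _ = ∑ j, ∑ l, α (x l) • (m i j * antipodeMat k m j l) := by
          refine Finset.sum_congr rfl fun j _ => ?_
          rw [← h2, Finset.mul_sum]
          simp only [mul_smul_comm]
      _ = ∑ l, α (x l) • (if i = l then (1 : C) else 0) := by
          rw [Finset.sum_comm]
          refine Finset.sum_congr rfl fun l _ => ?_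
          rw [← Finset.smul_sum]
          congr 1
          have h1 := congrFun (congrFun hm.mul_antipodeMat i) l
          rw [Matrix.mul_apply, Matrix.one_apply] at h1
          exact h1
      _ = α (x i) • (1 : C) := by simp
  · have h4 : f (∑ j, α (x j) • b j) = α (∑ j, f (b j) • x j) := by
      simp only [map_sum, map_smul, smul_eq_mul]
      exact Finset.sum_congr rfl fun j _ => mul_comm _ _
    rw [h4, hx1, hα1]
    exact one_ne_zero

end Main

end K191.Galois
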