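import Groth.Agent.Books.ComodHom

/-!
# Comodules along an injective map of coalgebras

`i : C → D` an injective map of coalgebras over a field. Range criteria for `V ⊗ C → V ⊗ D`, comodule
structures along `i`, subcomodules along `i`.
-/

set_option autoImplicit false

universe u v v' w

open TensorProduct HopfRep

namespace K191.Inj

open Groth.Agent.Books.ComodBasic Groth.Agent.Books.ComodHom

section Lin

variable {k : Type u} [Field k] {C : Type v} [AddCommGroup C] [Module k C]
  {D : Type v'} [AddCommGroup D] [Module k D] {V : Type w} [AddCommGroup V] [Module k V]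

/-- Extension of functionals along an injective linear map. -/
lemma exists_extend (i : C →ₗ[k] D) (hi : Function.Injective i) (φ : C →ₗ[k] k) :
    ∃ ψ : D →ₗ[k] k, ψ ∘ₗ i = φ := by
  obtain ⟨r, hr⟩ := i.exists_leftInverse_of_injective (LinearMap.ker_eq_bot.2 hi)
  exact ⟨φ ∘ₗ r, by rw [LinearMap.comp_assoc, hr, LinearMap.comp_id]⟩

lemma slice_lTensor (i : C →ₗ[k] D) (ψ : D →ₗ[k] k) (x : V ⊗[k] C) :
    slice V ψ (i.lTensor V x) = slice V (ψ ∘ₗ i) x := by
  induction x with
  | zero => simp
  | tmul v a => simp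
  | add x y hx hy => simp [hx, hy]

/-- Membership in the image of `V ⊗ C → V ⊗ D` is detected by the functionals vanishing on the image of
`C`. -/
lemma mem_range_lTensor_iff (i : C →ₗ[k] D) (x : V ⊗[k] D) :
    x ∈ LinearMap.range (i.lTensor V) ↔ ∀ ψ : D →ₗ[k] k, ψ ∘ₗ i = 0 → slice V ψ x = 0 := by
  constructor
  · rintro ⟨y, rfl⟩ ψ hψ
    rw [slice_lTensor, hψ]
    simp [slice]
  · intro h
    have hex : Function.Exact (i.lTensor V) ((LinearMap.range i).mkQ.lTensor V) :=
      _root_.lTensor_exact V (f := i) (g := (LinearMap.range i).mkQ)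
        (by
          intro y
          rw [← LinearMap.mem_ker, Submodule.ker_mkQ]
          rfl) (Submodule.mkQ_surjective _)
    refine (hex x).1 (eq_zero_of_slice fun φ => ?_)
    rw [slice_lTensor]
    refine h _ ?_
    ext c
    rw [LinearMap.comp_apply, LinearMap.comp_apply, Submodule.mkQ_apply,
      (Submodule.Quotient.mk_eq_zero _).2 (LinearMap.mem_range_self i c), map_zero,
      LinearMap.zero_apply]

end Lin

section Coalg

variable {k : Type u} [Field k] {C : Type v} [AddCommGroup C] [Module k C] [Coalgebra k C]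
  {D : Type v'} [AddCommGroup D] [Module k D] [Coalgebra k D]
  (i : C →ₗc[k] D) (hi : Function.Injective i)
  {V : Type w} [AddCommGroup V] [Module k V]

include hi in
/-- A `D`-comodule whose coaction lands in `V ⊗ C` is a `C`-comodule. -/
theorem exists_comod [Comod k D V]
    (h : ∀ v : V, Comod.coact (k := k) (A := D) v ∈ LinearMap.range ((i : C →ₗ[k] D).lTensor V)) :
    ∃ c : Comod k C V, (i : C →ₗ[k] D).lTensor V ∘ₗ c.coact = Comod.coact (k := k) (A := D) := by
  have hinj : ∀ (M : Type w) [AddCommGroup M] [Module k M],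
      Function.Injective ((i : C →ₗ[k] D).lTensor M) := fun M _ _ =>
    Module.Flat.lTensor_preserves_injective_linearMap _ hi
  let e := LinearEquiv.ofInjective ((i : C →ₗ[k] D).lTensor V) (hinj V)
  let c : V →ₗ[k] V ⊗[k] C := e.symm.toLinearMap ∘ₗ (Comod.coact (k := k) (A := D)).codRestrict _ h
  have hc : ∀ v, (i : C →ₗ[k] D).lTensor V (c v) = Comod.coact (k := k) (A := D) v := fun v =>
    congrArg Subtype.val (e.apply_symm_apply ((Comod.coact (k := k) (A := D)).codRestrict _ h v))
  have hc' : (i : C →ₗ[k] D).lTensor V ∘ₗ c = Comod.coact (k := k) (A := D) := LinearMap.ext hc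
  have hinj2 : Function.Injective ((TensorProduct.map (i : C →ₗ[k] D) (i : C →ₗ[k] D)).lTensor V) := by
    refine Module.Flat.lTensor_preserves_injective_linearMap _ ?_
    exact TensorProduct.map_injective_of_flat_flat _ _ hi hi
  refine ⟨{ coact := c, coassoc := ?_, counit_comp := ?_ }, hc'⟩
  · refine LinearMap.ext fun v => hinj2 ?_
    have h1 : ∀ y : V ⊗[k] C, (TensorProduct.map (i : C →ₗ[k] D) (i : C →ₗ[k] D)).lTensor V
        ((TensorProduct.assoc k V C C) (c.rTensor C y)) = (TensorProduct.assoc k V D D)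
          ((Comod.coact (k := k) (A := D)).rTensor D ((i : C →ₗ[k] D).lTensor V y)) := by
      intro y
      induction y with
      | zero => simp
      | tmul x a =>
        rw [LinearMap.rTensor_tmul, LinearMap.lTensor_tmul, LinearMap.rTensor_tmul, ← hc x]
        generalize c x = z
        induction z with
        | zero => simp
        | tmul x' a' => simp
        | add z z' hz hz' => simp only [map_add, add_tmul, hz, hz']
      | add y y' hy hy' => simp only [map_add, hy, hy']
    have h2 : ∀ y : V ⊗[k] C, (TensorProduct.map (i : C →ₗ[k] D) (i : C →ₗ[k] D)).lTensor V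
        ((CoalgebraStruct.comul (R := k) (A := C)).lTensor V y) =
          (CoalgebraStruct.comul (R := k) (A := D)).lTensor V ((i : C →ₗ[k] D).lTensor V y) := by
      intro y
      have h0 : TensorProduct.map (i : C →ₗ[k] D) (i : C →ₗ[k] D) ∘ₗ CoalgebraStruct.comul =
        CoalgebraStruct.comul ∘ₗ (i : C →ₗ[k] D) := i.map_comp_comul
      rw [← LinearMap.comp_apply, ← LinearMap.comp_apply, ← LinearMap.lTensor_comp,
        ← LinearMap.lTensor_comp, h0]
    have h3 := LinearMap.congr_fun (Comod.coassoc (k := k) (A := D) (V := V)) v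
    simp only [LinearMap.comp_apply, LinearEquiv.coe_coe] at h3 ⊢
    rw [h1, h2, hc, h3]
  · refine LinearMap.ext fun v => ?_
    have h3 := LinearMap.congr_fun (Comod.counit_comp (k := k) (A := D) (V := V)) v
    have h0 : CoalgebraStruct.counit ∘ₗ (i : C →ₗ[k] D) =
      (CoalgebraStruct.counit : C →ₗ[k] k) := i.counit_comp
    simp only [LinearMap.comp_apply] at h3 ⊢
    rw [← h3, ← hc v, ← LinearMap.comp_apply (LinearMap.lTensor V _) (LinearMap.lTensor V _),
      ← LinearMap.lTensor_comp, h0]

include hi in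
/-- Subcomodules along an injective map of coalgebras. -/
theorem isSubcomod_iff [Comod k C V] [Comod k D V]
    (hcd : (i : C →ₗ[k] D).lTensor V ∘ₗ Comod.coact (k := k) (A := C) =
      Comod.coact (k := k) (A := D) (V := V)) (W : Submodule k V) :
    IsSubcomod (k := k) (A := D) W ↔ IsSubcomod (k := k) (A := C) W := by
  have key : ∀ (ψ : D →ₗ[k] k) (v : V), dact V ψ v = dact V (ψ ∘ₗ (i : C →ₗ[k] D)) v := by
    intro ψ v
    rw [dact_apply, dact_apply, ← hcd, LinearMap.comp_apply, slice_lTensor]
  rw [isSubcomod_iff_dact, isSubcomod_iff_dact]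
  constructor
  · intro h φ w hw
    obtain ⟨ψ, rfl⟩ := exists_extend (i : C →ₗ[k] D) hi φ
    rw [← key]
    exact h ψ w hw
  · intro h ψ w hw
    rw [key]
    exact h _ w hw

/-- The least admissible subcomodule. -/
theorem exists_least [Comod k D V] :
    ∃ K : Submodule k V, IsSubcomod (k := k) (A := D) K ∧
      (∀ v : V, K.mkQ.rTensor D (Comod.coact (k := k) (A := D) v) ∈
        LinearMap.range ((i : C →ₗ[k] D).lTensor (V ⧸ K))) ∧
      ∀ K' : Submodule k V, IsSubcomod (k := k) (A := D) K' →
        (∀ v : V, K'.mkQ.rTensor D (Comod.coact (k := k) (A := D) v) ∈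
          LinearMap.range ((i : C →ₗ[k] D).lTensor (V ⧸ K'))) → K ≤ K' := by
  have key : ∀ K : Submodule k V, (∀ v : V, K.mkQ.rTensor D (Comod.coact (k := k) (A := D) v) ∈
      LinearMap.range ((i : C →ₗ[k] D).lTensor (V ⧸ K))) ↔
        ∀ ψ : D →ₗ[k] k, ψ ∘ₗ (i : C →ₗ[k] D) = 0 → ∀ v : V, dact V ψ v ∈ K := by
    intro K
    simp only [mem_range_lTensor_iff, slice_rTensor, ← dact_apply, Submodule.mkQ_apply,
      Submodule.Quotient.mk_eq_zero]
    exact ⟨fun h ψ hψ v => h v ψ hψ, fun h v ψ hψ => h ψ hψ v⟩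
  refine ⟨⨅ K : {K : Submodule k V // IsSubcomod (k := k) (A := D) K ∧
    ∀ ψ : D →ₗ[k] k, ψ ∘ₗ (i : C →ₗ[k] D) = 0 → ∀ v : V, dact V ψ v ∈ K}, K.1,
    IsSubcomod.iInf fun K => K.2.1, ?_, ?_⟩
  · rw [key]
    intro ψ hψ v
    rw [Submodule.mem_iInf]
    exact fun K => K.2.2 ψ hψ v
  · intro K' h1 h2
    exact iInf_le_of_le ⟨K', h1, (key K').1 h2⟩ le_rfl

end Coalg

end K191.Inj
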