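import Groth.Agent.Books.CoeffMat
import Groth.Agent.GIT.K688.Reynolds
import Mathlib.RingTheory.HopfAlgebra.Convolution

/-!
# Integrals on Hopf algebras and semisimplicity of comodules

`IsInt α`: `α : A → k` is a comodule map from the regular comodule to the trivial one.
* `ret α V : V ⊗ A → V`, a comodule map for the coaction `id ⊗ Δ`, a retraction of the coaction if `α 1 = 1`;
* `semisimple_of_isInt`: all comodules are semisimple if there is an integral with `α 1 = 1`;
* `exists_isInt`: a linearly reductive Hopf algebra has such an integral.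
-/

set_option autoImplicit false

universe u v w w'

open TensorProduct HopfRep

namespace K191.Integral

open Groth.Agent.Books.ComodBasic Groth.Agent.Books.ComodHom Groth.Agent.Books.CoeffMat
  Groth.Agent.Books.ComodInv

section Mult

variable {k : Type u} {A : Type v} [CommRing k] [CommRing A] [HopfAlgebra k A]
variable {ι : Type w'} [Fintype ι] [DecidableEq ι]

/-- The comultiplication of the antipode of a multiplicative matrix. -/
lemma comul_antipode {m : Matrix ι ι A} (hm : IsMult k m) (i j : ι) :
    CoalgebraStruct.comul (R := k) (HopfAlgebraStruct.antipode k (m i j)) =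
      ∑ l, (HopfAlgebraStruct.antipode k (m l j) : A) ⊗ₜ[k]
        (HopfAlgebraStruct.antipode k (m i l) : A) := by
  set D : Matrix ι ι A →+* Matrix ι ι (A ⊗[k] A) :=
    (Bialgebra.comulAlgHom k A).toRingHom.mapMatrix with hD
  set L : Matrix ι ι A →+* Matrix ι ι (A ⊗[k] A) :=
    (Algebra.TensorProduct.includeLeft (R := k) (S := k) (A := A) (B := A)).toRingHom.mapMatrix with hL
  set R : Matrix ι ι A →+* Matrix ι ι (A ⊗[k] A) :=
    (Algebra.TensorProduct.includeRight (R := k) (A := A) (B := A)).toRingHom.mapMatrix with hR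
  have h1 : D m = L m * R m := by
    ext a b
    rw [Matrix.mul_apply]
    refine (hm.comul a b).trans (Finset.sum_congr rfl fun l _ => ?_)
    change _ = (m a l ⊗ₜ[k] (1 : A)) * ((1 : A) ⊗ₜ[k] m l b)
    rw [Algebra.TensorProduct.tmul_mul_tmul, mul_one, one_mul]
  have h2 : D (antipodeMat k m) * D m = 1 := by rw [← map_mul, hm.antipodeMat_mul, map_one]
  have h3 : (R (antipodeMat k m) * L (antipodeMat k m)) * D m = 1 := by
    rw [h1, mul_assoc, ← mul_assoc (L _) (L _), ← map_mul L, hm.antipodeMat_mul, map_one, one_mul,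
      ← map_mul, hm.antipodeMat_mul, map_one]
  have h4 : D m * D (antipodeMat k m) = 1 := by rw [← map_mul, hm.mul_antipodeMat, map_one]
  have h5 : D (antipodeMat k m) = R (antipodeMat k m) * L (antipodeMat k m) := by
    calc D (antipodeMat k m) = ((R (antipodeMat k m) * L (antipodeMat k m)) * D m) *
        D (antipodeMat k m) := by rw [h3, one_mul]
      _ = _ := by rw [mul_assoc, h4, mul_one]
  have h6 := congrFun (congrFun h5 i) j
  rw [Matrix.mul_apply] at h6
  refine h6.trans (Finset.sum_congr rfl fun l _ => ?_)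
  change ((1 : A) ⊗ₜ[k] (HopfAlgebraStruct.antipode k (m i l) : A)) *
    ((HopfAlgebraStruct.antipode k (m l j) : A) ⊗ₜ[k] (1 : A)) = _
  rw [Algebra.TensorProduct.tmul_mul_tmul, mul_one, one_mul]

end Mult

section Ret

variable {k : Type u} {A : Type v} [Field k] [CommRing A] [HopfAlgebra k A]

/-- A linear form on `A` is an integral if it is a comodule map from the regular comodule to the
trivial comodule. -/
def IsInt (α : A →ₗ[k] k) : Prop :=
  ∀ a : A, α.rTensor A (CoalgebraStruct.comul (R := k) a) = α a ⊗ₜ[k] (1 : A)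

lemma isInt_iff (α : A →ₗ[k] k) :
    IsInt α ↔ @Hoch.IsComodHom k _ A _ _ _ A _ _ _ k _ _ (HopfRep.Comod.trivial k A k) α := by
  constructor
  · intro h
    exact LinearMap.ext fun a => (h a).symm
  · intro h a
    exact (LinearMap.congr_fun h a).symm

/-- `∑ α(S(b) a₁) a₂` as a function of `a`, for fixed `c = S b`. -/
noncomputable def kap (α : A →ₗ[k] k) (c : A) : A →ₗ[k] A :=
  (TensorProduct.lid k A).toLinearMap ∘ₗ (α ∘ₗ LinearMap.mulLeft k c).rTensor A ∘ₗ
    CoalgebraStruct.comul (R := k)

lemma lid_rTensor_comul_mul (α : A →ₗ[k] k) (c d : A) (x : A ⊗[k] A) :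
    TensorProduct.lid k A (α.rTensor A ((c ⊗ₜ[k] d) * x)) =
      d * TensorProduct.lid k A ((α ∘ₗ LinearMap.mulLeft k c).rTensor A x) := by
  induction x with
  | zero => simp
  | tmul a b => simp
  | add x y hx hy => rw [mul_add, map_add, map_add, map_add, map_add, mul_add, hx, hy]

/-- The key identity. -/
lemma sum_mul_int {ι : Type w'} [Fintype ι] [DecidableEq ι] {m : Matrix ι ι A} (hm : IsMult k m)
    {α : A →ₗ[k] k} (hα : IsInt α) (l j : ι) (a : A) :
    ∑ i, α (HopfAlgebraStruct.antipode k (m i j) * a) • m l i =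
      kap α (HopfAlgebraStruct.antipode k (m l j)) a := by
  have h1 : ∀ b : A, α b • (1 : A) =
      TensorProduct.lid k A (α.rTensor A (CoalgebraStruct.comul (R := k) b)) := by
    intro b
    rw [hα b, TensorProduct.lid_tmul]
  have h2 : ∀ i, α (HopfAlgebraStruct.antipode k (m i j) * a) • (1 : A) =
      ∑ p, HopfAlgebraStruct.antipode k (m i p) * kap α (HopfAlgebraStruct.antipode k (m p j)) a := by
    intro i
    rw [h1, show CoalgebraStruct.comul (R := k) (HopfAlgebraStruct.antipode k (m i j) * a) =
      CoalgebraStruct.comul (R := k) (HopfAlgebraStruct.antipode k (m i j)) *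
        CoalgebraStruct.comul (R := k) a from Bialgebra.comul_mul _ _, comul_antipode hm,
      Finset.sum_mul, map_sum, map_sum]
    exact Finset.sum_congr rfl fun p _ => lid_rTensor_comul_mul α _ _ _
  calc ∑ i, α (HopfAlgebraStruct.antipode k (m i j) * a) • m l i
      = ∑ i, m l i * (α (HopfAlgebraStruct.antipode k (m i j) * a) • (1 : A)) :=
        Finset.sum_congr rfl fun i _ => by rw [mul_smul_comm, mul_one]
    _ = ∑ i, ∑ p, (m l i * HopfAlgebraStruct.antipode k (m i p)) *
          kap α (HopfAlgebraStruct.antipode k (m p j)) a := by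
        refine Finset.sum_congr rfl fun i _ => ?_
        rw [h2, Finset.mul_sum]
        exact Finset.sum_congr rfl fun p _ => (mul_assoc _ _ _).symm
    _ = ∑ p, (∑ i, m l i * HopfAlgebraStruct.antipode k (m i p)) *
          kap α (HopfAlgebraStruct.antipode k (m p j)) a := by
        rw [Finset.sum_comm]
        exact Finset.sum_congr rfl fun p _ => (Finset.sum_mul _ _ _).symm
    _ = ∑ p, (if l = p then 1 else 0) * kap α (HopfAlgebraStruct.antipode k (m p j)) a := by
        refine Finset.sum_congr rfl fun p _ => ?_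
        have h := congrFun (congrFun hm.mul_antipodeMat l) p
        rw [Matrix.mul_apply, Matrix.one_apply] at h
        rw [← h]
        rfl
    _ = kap α (HopfAlgebraStruct.antipode k (m l j)) a := by
        simp

variable (V : Type w) [AddCommGroup V] [Module k V] [Comod k A V]

/-- The retraction `V ⊗ A → V`, `v ⊗ a ↦ ∑ v₀ α(S(v₁) a)`. -/
noncomputable def ret (α : A →ₗ[k] k) : V ⊗[k] A →ₗ[k] V :=
  (TensorProduct.rid k V).toLinearMap ∘ₗ
    (α ∘ₗ LinearMap.mul' k A ∘ₗ (HopfAlgebraStruct.antipode k).rTensor A).lTensor V ∘ₗ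
    (TensorProduct.assoc k V A A).toLinearMap ∘ₗ (Comod.coact (k := k) (A := A)).rTensor A

variable {V}

lemma ret_tmul_of {ι : Type w'} [Fintype ι] (α : A →ₗ[k] k) (v : V) (x : ι → V) (c : ι → A)
    (h : Comod.coact (k := k) (A := A) v = ∑ i, x i ⊗ₜ[k] c i) (a : A) :
    ret V α (v ⊗ₜ[k] a) = ∑ i, α (HopfAlgebraStruct.antipode k (c i) * a) • x i := by
  rw [ret]
  simp only [LinearMap.comp_apply, LinearMap.rTensor_tmul, h, sum_tmul, map_sum,
    LinearEquiv.coe_coe, assoc_tmul, LinearMap.lTensor_tmul, LinearMap.mul'_apply, rid_tmul]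

/-- Induction principle: a property of vectors which is linear holds for all vectors if it holds for
vectors whose coaction is given by a multiplicative matrix. -/
lemma mult_induction {P : V → Prop} (h0 : P 0) (hadd : ∀ x y, P x → P y → P (x + y))
    (hsmul : ∀ (c : k) x, P x → P (c • x))
    (h : ∀ (n : ℕ) (x : Fin n → V) (m : Matrix (Fin n) (Fin n) A), IsMult k m →
      (∀ j, Comod.coact (k := k) (A := A) (x j) = ∑ i, x i ⊗ₜ[k] m i j) → ∀ j, P (x j)) (v : V) :
    P v := by
  obtain ⟨n, x, m, -, hs, hm, hx⟩ := exists_isMult_of_finite (k := k) (A := A) {v}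
    (Set.finite_singleton v)
  have hv : v ∈ Submodule.span k (Set.range x) := hs rfl
  refine Submodule.span_induction (p := fun y _ => P y) ?_ h0 (fun y z _ _ => hadd y z)
    (fun c y _ => hsmul c y) hv
  rintro _ ⟨j, rfl⟩
  exact h n x m hm hx j

/-- The retraction is a comodule map for `id ⊗ Δ` on the source. -/
theorem coact_ret {α : A →ₗ[k] k} (hα : IsInt α) (y : V ⊗[k] A) :
    Comod.coact (k := k) (A := A) (ret V α y) =
      (ret V α).rTensor A (Hoch.Ind.coactAux k A V y) := by
  induction y with
  | zero => simp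
  | add x y hx hy => simp only [map_add, hx, hy]
  | tmul v a =>
    refine mult_induction (k := k) (A := A) (P := fun v => Comod.coact (k := k) (A := A)
      (ret V α (v ⊗ₜ[k] a)) = (ret V α).rTensor A (Hoch.Ind.coactAux k A V (v ⊗ₜ[k] a)))
      ?_ ?_ ?_ ?_ v
    · simp only [zero_tmul, map_zero]
    · intro x y hx hy
      simp only [add_tmul, map_add, hx, hy]
    · intro c x hx
      simp only [← smul_tmul', map_smul, hx]
    · intro n x m hm hx j
      rw [ret_tmul_of α (x j) x (fun i => m i j) (hx j), map_sum, Hoch.Ind.coactAux_tmul]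
      have h2 : ∀ z : A ⊗[k] A, (ret V α).rTensor A ((TensorProduct.assoc k V A A).symm
          (x j ⊗ₜ[k] z)) = ∑ l, x l ⊗ₜ[k] TensorProduct.lid k A
            ((α ∘ₗ LinearMap.mulLeft k (HopfAlgebraStruct.antipode k (m l j))).rTensor A z) := by
        intro z
        induction z with
        | zero => simp
        | add z z' hz hz' => simp only [map_add, tmul_add, hz, hz', Finset.sum_add_distrib]
        | tmul b c =>
          rw [assoc_symm_tmul, LinearMap.rTensor_tmul,
            ret_tmul_of α (x j) x (fun i => m i j) (hx j), sum_tmul]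
          refine Finset.sum_congr rfl fun l _ => ?_
          rw [LinearMap.rTensor_tmul, lid_tmul, LinearMap.comp_apply, LinearMap.mulLeft_apply,
            tmul_smul, smul_tmul']
      rw [h2]
      simp only [map_smul, hx, Finset.smul_sum]
      rw [Finset.sum_comm]
      refine Finset.sum_congr rfl fun l _ => ?_
      have h3 := sum_mul_int hm hα l j a
      rw [kap] at h3
      simp only [LinearMap.comp_apply, LinearEquiv.coe_coe] at h3
      rw [← h3, tmul_sum]
      exact Finset.sum_congr rfl fun i _ => (tmul_smul _ _ _).symm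

/-- The retraction is a left inverse of the coaction. -/
theorem ret_coact {α : A →ₗ[k] k} (h1 : α 1 = 1) (v : V) :
    ret V α (Comod.coact (k := k) (A := A) v) = v := by
  refine mult_induction (k := k) (A := A) (P := fun v => ret V α
    (Comod.coact (k := k) (A := A) v) = v) ?_ ?_ ?_ ?_ v
  · simp only [map_zero]
  · intro x y hx hy
    simp only [map_add, hx, hy]
  · intro c x hx
    simp only [map_smul, hx]
  · intro n x m hm hx j
    rw [hx j, map_sum]
    have h2 : ∀ i, ret V α (x i ⊗ₜ[k] m i j) =
        ∑ l, α (HopfAlgebraStruct.antipode k (m l i) * m i j) • x l := fun i =>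
      ret_tmul_of α (x i) x (fun l => m l i) (hx i) _
    simp only [h2]
    rw [Finset.sum_comm]
    have h3 : ∀ l, ∑ i, α (HopfAlgebraStruct.antipode k (m l i) * m i j) • x l =
        (if l = j then (1 : k) else 0) • x l := by
      intro l
      rw [← Finset.sum_smul, ← map_sum]
      have h := congrFun (congrFun hm.antipodeMat_mul l) j
      rw [Matrix.mul_apply, Matrix.one_apply] at h
      have h' : ∑ i, HopfAlgebraStruct.antipode k (m l i) * m i j = if l = j then (1 : A) else 0 := h
      rw [h']
      split_ifs
      · rw [h1]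
      · rw [map_zero]
    simp only [h3, ite_smul, one_smul, zero_smul, Finset.sum_ite_eq', Finset.mem_univ, if_true]

/-- The averaging of a linear map `f : V → W` between comodules. -/
noncomputable def avg {W : Type w'} [AddCommGroup W] [Module k W] [Comod k A W] (α : A →ₗ[k] k)
    (f : V →ₗ[k] W) : V →ₗ[k] W :=
  ret W α ∘ₗ f.rTensor A ∘ₗ Comod.coact (k := k) (A := A)

theorem isComodHom_avg {W : Type w'} [AddCommGroup W] [Module k W] [Comod k A W] {α : A →ₗ[k] k}
    (hα : IsInt α) (f : V →ₗ[k] W) : IsComodHom k A (avg α f) := by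
  intro v
  have h1 : ∀ y : V ⊗[k] A, Hoch.Ind.coactAux k A W (f.rTensor A y) =
      (f.rTensor A).rTensor A (Hoch.Ind.coactAux k A V y) := by
    intro y
    induction y with
    | zero => simp
    | add x y hx hy => simp only [map_add, hx, hy]
    | tmul v a =>
      rw [LinearMap.rTensor_tmul, Hoch.Ind.coactAux_tmul, Hoch.Ind.coactAux_tmul]
      generalize CoalgebraStruct.comul (R := k) a = z
      induction z with
      | zero => simp
      | add z z' hz hz' => simp only [map_add, tmul_add, hz, hz']
      | tmul b c => simp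
  have h2 : Hoch.Ind.coactAux k A V (Comod.coact (k := k) (A := A) v) =
      (Comod.coact (k := k) (A := A)).rTensor A (Comod.coact (k := k) (A := A) v) := by
    have h := LinearMap.congr_fun (Comod.coassoc (k := k) (A := A) (V := V)) v
    simp only [LinearMap.comp_apply, LinearEquiv.coe_coe] at h
    rw [Hoch.Ind.coactAux, LinearMap.comp_apply]
    rw [LinearEquiv.coe_coe, LinearEquiv.symm_apply_eq]
    exact h.symm
  rw [avg, LinearMap.comp_apply, LinearMap.comp_apply, coact_ret hα, h1, h2]
  rw [← LinearMap.comp_apply, ← LinearMap.comp_apply, ← LinearMap.rTensor_comp,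
    ← LinearMap.rTensor_comp]
  rfl

/-- Semisimplicity of comodules from an integral. -/
theorem semisimple_of_isInt {α : A →ₗ[k] k} (hα : IsInt α) (h1 : α 1 = 1) :
    IsSemisimpleComod k A V := by
  intro W hW
  let _ := subComod W hW
  have hs : IsComodHom k A W.subtype := isComodHom_subtype W hW
  obtain ⟨p, hp⟩ := W.subtype.exists_leftInverse_of_injective (Submodule.ker_subtype W)
  have hP : IsComodHom k A (avg α p) := isComodHom_avg hα p
  have hP1 : ∀ x : W, avg α p (x : V) = x := by
    intro x
    have h2 : p.rTensor A (Comod.coact (k := k) (A := A) (x : V)) =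
        Comod.coact (k := k) (A := A) x := by
      have h3 := hs x
      rw [Submodule.subtype_apply] at h3
      rw [h3, ← LinearMap.comp_apply, ← LinearMap.rTensor_comp, hp, LinearMap.rTensor_id]
      rfl
    rw [avg, LinearMap.comp_apply, LinearMap.comp_apply, h2, ret_coact h1]
  refine ⟨LinearMap.ker (avg α p), hP.isSubcomod_ker, ?_⟩
  exact (LinearMap.isCompl_of_proj hP1)

end Ret

end K191.Integral
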