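import Groth.Agent.HopfRep.K191.RedGalois

/-!
# A Galois extension gives the quotient
-/

set_option autoImplicit false

universe u

open TensorProduct HopfRep WithConv CategoryTheory MonoidalCategory CartesianMonoidalCategory
  AlgebraicGeometry Opposite
open scoped MonObj

namespace K191.QuotAff

open K191.Galois K191.ExactSeq K191.QuotRing K191.RedGalois

/-- The braided structure of `Spec`. -/
noncomputable local instance braidedAlgSpecOf (R : Type u) [CommRing R] :
    (algSpec (CommRingCat.of R)).Braided :=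
  braidedAlgSpec

section Prod

variable {k : Type u} [CommRing k] {A C : Type u} [CommRing A] [Algebra k A]
  [CommRing C] [Algebra k C]

/-- Two points give a point of the tensor product. -/
lemma exists_lift_pt {T : Over (Spec (CommRingCat.of k))} (a : T ⟶ CoactBr.sp k A)
    (y : T ⟶ CoactBr.sp k C) : ∃ w : T ⟶ CoactBr.sp k (A ⊗[k] C),
      w ≫ CoactBr.pt (Algebra.TensorProduct.includeLeft : A →ₐ[k] A ⊗[k] C) = a ∧
      w ≫ CoactBr.pt (Algebra.TensorProduct.includeRight : C →ₐ[k] A ⊗[k] C) = y := by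
  let m : CoactBr.sp k A ⊗ CoactBr.sp k C ⟶ CoactBr.sp k (A ⊗[k] C) :=
    Functor.LaxMonoidal.μ (algSpec (CommRingCat.of k)) (op (.of k A)) (op (.of k C))
  have h1 : m ≫ CoactBr.pt (Algebra.TensorProduct.includeLeft : A →ₐ[k] A ⊗[k] C) = fst _ _ :=
    Functor.Monoidal.μ_fst (algSpec (CommRingCat.of k)) (op (.of k A)) (op (.of k C))
  have h2 : m ≫ CoactBr.pt (Algebra.TensorProduct.includeRight : C →ₐ[k] A ⊗[k] C) = snd _ _ :=
    Functor.Monoidal.μ_snd (algSpec (CommRingCat.of k)) (op (.of k A)) (op (.of k C))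
  refine ⟨lift a y ≫ m, ?_, ?_⟩
  · rw [Category.assoc, h1, lift_fst]
  · rw [Category.assoc, h2, lift_snd]

end Prod

section Main

variable {k : Type u} [Field k] {A C : Type u} [CommRing A] [HopfAlgebra k A]
  [CommRing C] [HopfAlgebra k C]

open Groth.Agent.RedSub.H650.QuotPts in
/-- If `A` is a Galois extension of `B`, then the quotient is `Spec B`. -/
theorem isAffine_of_galois (ψ : A →ₐc[k] C)
    {B : Type u} [CommRing B] [Algebra k B] [Algebra B A] [IsScalarTower k B A]
    [Module.FaithfullyFlat B A] (h : Coinv ψ B) (hb : Function.Bijective (can h))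
    {Q : Over (Spec (CommRingCat.of k))} (q : CoactBr.sp k A ⟶ Q)
    (hq : RedSub.IsQuotient (CoactBr.pt (ψ : A →ₐ[k] C)) q) : IsAffine Q.left := by
  let f : B →ₐ[k] A := IsScalarTower.toAlgHom k B A
  let p : CoactBr.sp k A ⟶ CoactBr.sp k B := CoactBr.pt f
  have hff : Flat p.left ∧ Surjective p.left := by
    change Flat (Spec.map (CommRingCat.ofHom f.toRingHom)) ∧
      Surjective (Spec.map (CommRingCat.ofHom f.toRingHom))
    rw [flat_and_surjective_SpecMap_iff]
    exact RingHom.faithfullyFlat_algebraMap_iff.2 inferInstance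
  -- `Q → Spec B`
  obtain ⟨u, hu⟩ : ∃ u : Q ⟶ CoactBr.sp k B, q ≫ u = p := by
    refine exists_desc hq p fun T a y => ?_
    obtain ⟨w, rfl, rfl⟩ := exists_lift_pt a y
    rw [Category.assoc, ← CoactBr.pt_comp, ← MonObj.comp_mul]
    have h1 : CoactBr.pt (Algebra.TensorProduct.includeLeft : A →ₐ[k] A ⊗[k] C) *
        CoactBr.pt ((Algebra.TensorProduct.includeRight : C →ₐ[k] A ⊗[k] C).comp
          (ψ : A →ₐ[k] C)) = CoactBr.pt (rho ψ) := by
      have h2 := K191.QuotRing.pt_mul_pt
        (toConv (Algebra.TensorProduct.includeLeft : A →ₐ[k] A ⊗[k] C))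
        (toConv ((Algebra.TensorProduct.includeRight : C →ₐ[k] A ⊗[k] C).comp
          (ψ : A →ₐ[k] C)))
      rw [← rho_eq_conv] at h2
      exact h2
    rw [h1, Category.assoc, Category.assoc, ← CoactBr.pt_comp, ← CoactBr.pt_comp]
    congr 2
    exact AlgHom.ext fun b => h b
  -- `Spec B → Q`
  obtain ⟨v, hv⟩ : ∃ v : CoactBr.sp k B ⟶ Q, p ≫ v = q := by
    obtain ⟨g, hg⟩ := exists_pt_of_bijective h hb
    have h1 : CoactBr.pt (iL k A B) ≫ q = CoactBr.pt (iR k A B) ≫ q := by
      refine (ptQuot_of_isPullback hq.2.2.2 _ _ _).2 ⟨CoactBr.pt g, ?_⟩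
      rw [← CoactBr.pt_comp]
      have h2 := K191.QuotRing.pt_mul_pt (toConv (iL k A B))
        (toConv (g.comp (ψ : A →ₐ[k] C)))
      rw [← hg] at h2
      exact h2.symm
    have hpb : IsPullback (Spec.map (CommRingCat.ofHom (iL k A B).toRingHom))
        (Spec.map (CommRingCat.ofHom (iR k A B).toRingHom))
        (Spec.map (CommRingCat.ofHom f.toRingHom)) (Spec.map (CommRingCat.ofHom f.toRingHom)) := by
      exact isPullback_SpecMap_of_isPushout _ _ _ _ (CommRingCat.isPushout_tensorProduct B A A)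
    have := hff.1
    have := hff.2
    have hqc : QuasiCompact p.left := inferInstanceAs (QuasiCompact
      (Spec.map (CommRingCat.ofHom f.toRingHom)))
    obtain ⟨v, hv⟩ := Groth.Agent.Sga3C.QuotRel.exists_desc p.left q.left fun {T} a b hab => by
      obtain ⟨w, h4, h5⟩ : ∃ w : T ⟶ Spec (CommRingCat.of (A ⊗[B] A)),
          w ≫ Spec.map (CommRingCat.ofHom (iL k A B).toRingHom) = a ∧
          w ≫ Spec.map (CommRingCat.ofHom (iR k A B).toRingHom) = b :=
        ⟨hpb.lift a b hab, hpb.lift_fst a b hab, hpb.lift_snd a b hab⟩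
      have h6 : Spec.map (CommRingCat.ofHom (iL k A B).toRingHom) ≫ q.left =
        Spec.map (CommRingCat.ofHom (iR k A B).toRingHom) ≫ q.left := congrArg (fun x => x.left) h1
      have h7 : ∀ x : Spec (CommRingCat.of (A ⊗[B] A)) ⟶ (CoactBr.sp k A).left,
          (w ≫ x) ≫ q.left = w ≫ x ≫ q.left := fun x => Category.assoc _ _ _
      rw [← h4, ← h5]
      exact (h7 _).trans ((congrArg (fun x => w ≫ x) h6).trans (h7 _).symm)
    have hvw : v ≫ Q.hom = (CoactBr.sp k B).hom := by
      have : Epi p.left := Flat.epi_of_flat_of_surjective p.left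
      rw [← cancel_epi p.left, ← Category.assoc, hv, Over.w, Over.w]
    exact ⟨Over.homMk v hvw, Over.OverMorphism.ext hv⟩
  have hq1 := epi_of_isQuotient hq
  have hp1 : Epi p := by
    have := hff.1
    have := hff.2
    have : Epi p.left := Flat.epi_of_flat_of_surjective p.left
    exact Over.epi_of_epi_left p
  obtain ⟨e⟩ : Nonempty (Q ≅ CoactBr.sp k B) := ⟨⟨u, v, by
    rw [← cancel_epi q, ← Category.assoc, hu, hv, Category.comp_id], by
    rw [← cancel_epi p, ← Category.assoc, hv, hu, Category.comp_id]⟩⟩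
  have : IsIso e.hom.left := inferInstanceAs (IsIso ((Over.forget _).map e.hom))
  have : IsAffine (CoactBr.sp k B).left := inferInstanceAs (IsAffine (Spec (CommRingCat.of B)))
  exact IsAffine.of_isIso e.hom.left

end Main

end K191.QuotAff
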