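import Groth.Agent.HopfRep.K191.ExactSeq
import Groth.Agent.RedSub.H650.QuotPts
import Groth.Prelude.Def_CoactBr

/-!
# Affine quotients of affine groups in terms of rings
-/

set_option autoImplicit false

universe u

open TensorProduct HopfRep WithConv CategoryTheory MonoidalCategory CartesianMonoidalCategory
  AlgebraicGeometry
open scoped MonObj

namespace K191.QuotRing

open K191.Galois K191.ExactSeq

section Pts

variable {k : Type u} [CommRing k]

lemma exists_pt {A E : Type u} [CommRing A] [CommRing E] [Algebra k A] [Algebra k E]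
    (f : CoactBr.sp k E ⟶ CoactBr.sp k A) : ∃ φ : A →ₐ[k] E, CoactBr.pt φ = f := by
  let l : Spec (CommRingCat.of E) ⟶ Spec (CommRingCat.of A) := f.left
  let g : CommRingCat.of A ⟶ CommRingCat.of E := Spec.preimage l
  have hg : Spec.map g = l := Spec.map_preimage l
  have h1 : Spec.map g ≫ Spec.map (CommRingCat.ofHom (algebraMap k A)) =
      Spec.map (CommRingCat.ofHom (algebraMap k E)) := by
    rw [hg]
    exact Over.w f
  rw [← Spec.map_comp] at h1
  have h2 := Spec.map_injective h1
  refine ⟨{ g.hom with commutes' := fun r => congr($h2 r) }, ?_⟩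
  ext1
  rw [CoactBr.pt_left]
  exact hg

lemma exists_sp_iso (X : Over (Spec (CommRingCat.of k))) [IsAffine X.left] :
    ∃ (A : Type u) (_ : CommRing A) (_ : Algebra k A), Nonempty (X ≅ CoactBr.sp k A) := by
  obtain ⟨φ, hφ⟩ := Spec.map_surjective (X.left.isoSpec.inv ≫ X.hom)
  let _ : Algebra k Γ(X.left, ⊤) := φ.hom.toAlgebra
  refine ⟨Γ(X.left, ⊤), inferInstance, inferInstance, ⟨Over.isoMk X.left.isoSpec ?_⟩⟩
  change X.left.isoSpec.hom ≫ Spec.map φ = X.hom
  rw [hφ, Iso.hom_inv_id_assoc]

lemma pt_mul_pt {A R : Type u} [CommRing A] [Bialgebra k A] [CommRing R] [Algebra k R]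
    (x y : WithConv (A →ₐ[k] R)) :
    CoactBr.pt x.ofConv * CoactBr.pt y.ofConv = CoactBr.pt (x * y).ofConv := by
  rw [CoactBr.pt_mul_pt]
  congr 1
  refine AlgHom.ext fun a => ?_
  exact (AlgHom.convMul_apply x y a).symm

end Pts

section Can

variable {k : Type u} [Field k] {A C B : Type u} [CommRing A] [HopfAlgebra k A]
  [CommRing C] [HopfAlgebra k C] [CommRing B] [Algebra k B] [Algebra B A] [IsScalarTower k B A]
  {ψ : A →ₐc[k] C}

/-- The left inclusion. -/
noncomputable def iL (k A B : Type u) [Field k] [CommRing A] [HopfAlgebra k A]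
    [CommRing B] [Algebra k B] [Algebra B A] [IsScalarTower k B A] : A →ₐ[k] A ⊗[B] A :=
  (Algebra.TensorProduct.includeLeft : A →ₐ[B] A ⊗[B] A).restrictScalars k

/-- The right inclusion. -/
noncomputable def iR (k A B : Type u) [Field k] [CommRing A] [HopfAlgebra k A]
    [CommRing B] [Algebra k B] [Algebra B A] [IsScalarTower k B A] : A →ₐ[k] A ⊗[B] A :=
  (Algebra.TensorProduct.includeRight : A →ₐ[B] A ⊗[B] A).restrictScalars k

/-- The canonical map is bijective if the two inclusions of `A` in `A ⊗_B A` differ by a point of `C`. -/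
theorem can_bijective_of_pt (hψ : Function.Surjective ψ) (h : Coinv ψ B) (g : C →ₐ[k] A ⊗[B] A)
    (hg : toConv (iR k A B) = toConv (iL k A B) * toConv (g.comp (ψ : A →ₐ[k] C))) :
    Function.Bijective (can h) := by
  let θ : A ⊗[k] C →ₐ[k] A ⊗[B] A := Algebra.TensorProduct.lift (iL k A B) g fun _ _ =>
    Commute.all _ _
  have hθ : ∀ (a : A) (c : C), θ (a ⊗ₜ[k] c) = iL k A B a * g c := fun a c => by
    rw [Algebra.TensorProduct.lift_tmul]
  have h1 : ∀ a : A, θ (rho ψ a) = iR k A B a := by
    intro a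
    have h2 : postHom θ (toConv (rho ψ)) = toConv (iR k A B) := by
      rw [rho_eq_conv, map_mul, hg]
      congr 1
      · apply WithConv.ofConv_injective
        refine AlgHom.ext fun a => ?_
        change θ (a ⊗ₜ[k] (1 : C)) = _
        rw [hθ, map_one, mul_one]
      · apply WithConv.ofConv_injective
        refine AlgHom.ext fun a => ?_
        change θ ((1 : A) ⊗ₜ[k] ψ a) = _
        rw [hθ, map_one, one_mul]
        rfl
    exact congrArg (fun f : WithConv (A →ₐ[k] A ⊗[B] A) => f.ofConv a) h2
  have h2 : ∀ a : A, can h (g (ψ a)) = (1 : A) ⊗ₜ[k] ψ a := by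
    intro a
    have h5 : postHom ((can h).restrictScalars k) (toConv (g.comp (ψ : A →ₐ[k] C))) =
        toConv ((Algebra.TensorProduct.includeRight : C →ₐ[k] A ⊗[k] C).comp
          (ψ : A →ₐ[k] C)) := by
      have h6 : toConv (g.comp (ψ : A →ₐ[k] C)) = (toConv (iL k A B))⁻¹ * toConv (iR k A B) := by
        rw [hg, inv_mul_cancel_left]
      rw [h6, map_mul, map_inv]
      have h3 : postHom ((can h).restrictScalars k) (toConv (iL k A B)) =
          toConv (Algebra.TensorProduct.includeLeft : A →ₐ[k] A ⊗[k] C) := by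
        apply WithConv.ofConv_injective
        refine AlgHom.ext fun a => ?_
        change can h (a ⊗ₜ[B] (1 : A)) = a ⊗ₜ[k] (1 : C)
        rw [can_tmul, map_one, mul_one]
      have h4 : postHom ((can h).restrictScalars k) (toConv (iR k A B)) = toConv (rho ψ) := by
        apply WithConv.ofConv_injective
        refine AlgHom.ext fun a => ?_
        change can h ((1 : A) ⊗ₜ[B] a) = rho ψ a
        rw [can_tmul]
        exact one_mul _
      rw [h3, h4, rho_eq_conv, inv_mul_cancel_left]
    exact congrArg (fun f : WithConv (A →ₐ[k] A ⊗[k] C) => f.ofConv a) h5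
  constructor
  · have hli : Function.LeftInverse θ (can h) := by
      intro z
      induction z with
      | zero => simp
      | add x y hx hy => rw [map_add, map_add, hx, hy]
      | tmul a a' =>
        rw [can_tmul, map_mul, hθ, map_one, mul_one, h1]
        change (a ⊗ₜ[B] (1 : A)) * ((1 : A) ⊗ₜ[B] a') = _
        rw [Algebra.TensorProduct.tmul_mul_tmul, mul_one, one_mul]
    exact hli.injective
  · have hri : Function.RightInverse θ (can h) := by
      intro z
      induction z with
      | zero => simp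
      | add x y hx hy => rw [map_add, map_add, hx, hy]
      | tmul a c =>
        obtain ⟨a', rfl⟩ := hψ c
        rw [hθ, map_mul]
        have h3 : can h (iL k A B a) = a ⊗ₜ[k] (1 : C) := by
          change can h (a ⊗ₜ[B] (1 : A)) = _
          rw [can_tmul, map_one, mul_one]
        rw [h3, h2, Algebra.TensorProduct.tmul_mul_tmul, mul_one, one_mul]
    exact hri.surjective

end Can

section Main

variable {k : Type u} [Field k] {A C : Type u} [CommRing A] [HopfAlgebra k A]
  [CommRing C] [HopfAlgebra k C]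

open Groth.Agent.RedSub.H650.QuotPts in
/-- An affine quotient gives a Galois extension. -/
theorem exists_galois (ψ : A →ₐc[k] C) (hψ : Function.Surjective ψ)
    {Q : Over (Spec (CommRingCat.of k))} [IsAffine Q.left] (q : CoactBr.sp k A ⟶ Q)
    (hq : RedSub.IsQuotient (CoactBr.pt (ψ : A →ₐ[k] C)) q) :
    ∃ (B : Type u) (_ : CommRing B) (_ : Algebra k B) (_ : Algebra B A) (_ : IsScalarTower k B A)
      (_ : Module.FaithfullyFlat B A) (h : Coinv ψ B), Function.Bijective (can h) := by
  obtain ⟨B, _, _, ⟨e⟩⟩ := exists_sp_iso Q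
  obtain ⟨f, hf⟩ := exists_pt (q ≫ e.hom)
  let _ : Algebra B A := f.toRingHom.toAlgebra
  have hst : IsScalarTower k B A := IsScalarTower.of_algebraMap_eq fun r => (f.commutes r).symm
  obtain ⟨q1, q2, q3, q4⟩ := hq
  have hel : IsIso e.hom.left := inferInstanceAs (IsIso ((Over.forget _).map e.hom))
  have hff : Module.FaithfullyFlat B A := by
    have h1 : Flat (CoactBr.pt f).left ∧ Surjective (CoactBr.pt f).left := by
      rw [hf]
      constructor
      · exact inferInstanceAs (Flat (q.left ≫ e.hom.left))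
      · exact inferInstanceAs (Surjective (q.left ≫ e.hom.left))
    rw [CoactBr.pt_left] at h1
    exact RingHom.faithfullyFlat_algebraMap_iff.1 ((flat_and_surjective_SpecMap_iff _).1 h1)
  -- points
  have hpt : ∀ (R : Type u) [CommRing R] [Algebra k R] (x y : WithConv (A →ₐ[k] R)),
      x.ofConv.comp f = y.ofConv.comp f ↔
        ∃ g : C →ₐ[k] R, y = x * toConv (g.comp (ψ : A →ₐ[k] C)) := by
    intro R _ _ x y
    have h1 := ptQuot_of_isPullback q4 _ (CoactBr.pt x.ofConv) (CoactBr.pt y.ofConv)
    have h2 : ∀ x : WithConv (A →ₐ[k] R), CoactBr.pt (x.ofConv.comp f) =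
        (CoactBr.pt x.ofConv ≫ q) ≫ e.hom := by
      intro x
      rw [CoactBr.pt_comp, hf, Category.assoc]
    have h3 : x.ofConv.comp f = y.ofConv.comp f ↔
        CoactBr.pt x.ofConv ≫ q = CoactBr.pt y.ofConv ≫ q := by
      rw [← cancel_mono e.hom, ← h2, ← h2]
      exact ⟨fun h => by rw [h], fun h => CoactBr.pt_injective h⟩
    rw [h3, h1]
    constructor
    · rintro ⟨y', hy'⟩
      obtain ⟨g, rfl⟩ := exists_pt y'
      refine ⟨g, ?_⟩
      rw [← CoactBr.pt_comp, show g.comp (ψ : A →ₐ[k] C) =
        (toConv (g.comp (ψ : A →ₐ[k] C))).ofConv from rfl, pt_mul_pt] at hy'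
      exact WithConv.ofConv_injective (CoactBr.pt_injective hy')
    · rintro ⟨g, rfl⟩
      refine ⟨CoactBr.pt g, ?_⟩
      rw [← CoactBr.pt_comp, show g.comp (ψ : A →ₐ[k] C) =
        (toConv (g.comp (ψ : A →ₐ[k] C))).ofConv from rfl, pt_mul_pt]
  have hco : Coinv ψ B := by
    have h1 := (hpt (A ⊗[k] C) (toConv Algebra.TensorProduct.includeLeft) (toConv (rho ψ))).2
      ⟨Algebra.TensorProduct.includeRight, rho_eq_conv⟩
    intro b
    exact (AlgHom.congr_fun h1 b).symm
  refine ⟨B, inferInstance, inferInstance, inferInstance, hst, hff, hco, ?_⟩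
  obtain ⟨g, hg⟩ := (hpt (A ⊗[B] A) (toConv (iL k A B)) (toConv (iR k A B))).1 (by
    refine AlgHom.ext fun b => ?_
    change (algebraMap B A b) ⊗ₜ[B] (1 : A) = (1 : A) ⊗ₜ[B] (algebraMap B A b)
    rw [Algebra.algebraMap_eq_smul_one, smul_tmul])
  exact can_bijective_of_pt hψ hco g hg

end Main

end K191.QuotRing
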