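import Groth.Agent.HopfRep.K191.LInt
import Groth.Agent.HopfRep.K191.QuotRing

/-!
# Quotients by linearly reductive subgroups are Galois

`ψ : A → C` a surjective map of commutative Hopf algebras over a field, `β` a normalised left invariant integral on
`C`, `B = A^C` the coinvariants. Then `A` is faithfully flat (even projective) over `B` and `A ⊗_B A → A ⊗ C` is
bijective (`faithfullyFlat`, `can_bijective`).
-/

set_option autoImplicit false

universe u

open TensorProduct HopfRep WithConv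

namespace K191.RedGalois

open K191.Integral K191.Reductive K191.Galois K191.ExactSeq K191.LInt K191.QuotRing

variable {k : Type u} [Field k] {A C : Type u} [CommRing A] [HopfAlgebra k A]
  [CommRing C] [HopfAlgebra k C]

section Maps

/-- `x ⊗ c ↦ β(c) x`. -/
noncomputable def eb (β : C →ₗ[k] k) : A ⊗[k] C →ₗ[k] A :=
  (TensorProduct.rid k A).toLinearMap ∘ₗ β.lTensor A

lemma eb_tmul (β : C →ₗ[k] k) (x : A) (c : C) : eb β (x ⊗ₜ[k] c) = β c • x := by
  rw [eb, LinearMap.comp_apply, LinearMap.lTensor_tmul, LinearEquiv.coe_coe, rid_tmul]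

lemma eb_mul (β : C →ₗ[k] k) (w : A ⊗[k] C) (y : A) : eb β (w * (y ⊗ₜ[k] (1 : C))) = eb β w * y := by
  induction w with
  | zero => simp
  | add x y hx hy => simp only [map_add, add_mul, hx, hy]
  | tmul x c => rw [Algebra.TensorProduct.tmul_mul_tmul, mul_one, eb_tmul, eb_tmul, smul_mul_assoc]

lemma eb_rho (ψ : A →ₐc[k] C) (β : C →ₗ[k] k) (a : A) : eb β (rho ψ a) = reyn ψ β a := by
  rw [reyn_apply]
  rfl

/-- `w ⊗ c ↦ (id ⊗ β)(w (1 ⊗ S c))`. -/
noncomputable def dd (β : C →ₗ[k] k) : (A ⊗[k] C) ⊗[k] C →ₗ[k] A :=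
  TensorProduct.lift (((LinearMap.mul k (A ⊗[k] C)).compl₂
    ((Algebra.TensorProduct.includeRight : C →ₐ[k] A ⊗[k] C).toLinearMap ∘ₗ
      HopfAlgebraStruct.antipode k)).compr₂ (eb β))

lemma dd_tmul (β : C →ₗ[k] k) (w : A ⊗[k] C) (c : C) :
    dd β (w ⊗ₜ[k] c) = eb β (w * ((1 : A) ⊗ₜ[k] HopfAlgebraStruct.antipode k c)) := rfl

lemma dd_assoc {β : C →ₗ[k] k} (h1 : β 1 = 1) (v : A ⊗[k] C) :
    dd β ((TensorProduct.assoc k A C C).symm
      ((CoalgebraStruct.comul (R := k) (A := C)).lTensor A v)) =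
      TensorProduct.rid k A ((CoalgebraStruct.counit (R := k) (A := C)).lTensor A v) := by
  induction v with
  | zero => simp
  | add x y hx hy => simp only [map_add, hx, hy]
  | tmul x c =>
    have h2 : ∀ z : C ⊗[k] C, dd β ((TensorProduct.assoc k A C C).symm (x ⊗ₜ[k] z)) =
        β (LinearMap.mul' k C ((HopfAlgebraStruct.antipode (R := k) (A := C)).lTensor C z)) • x := by
      intro z
      induction z with
      | zero => simp
      | add z z' hz hz' => simp only [map_add, tmul_add, hz, hz', add_smul]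
      | tmul c d =>
        rw [assoc_symm_tmul, dd_tmul, Algebra.TensorProduct.tmul_mul_tmul, mul_one, eb_tmul,
          LinearMap.lTensor_tmul, LinearMap.mul'_apply]
    rw [LinearMap.lTensor_tmul, h2, HopfAlgebra.mul_antipode_lTensor_comul_apply,
      LinearMap.lTensor_tmul, rid_tmul, Algebra.algebraMap_eq_smul_one, map_smul, h1, smul_eq_mul,
      mul_one]

lemma dd_rho (ψ : A →ₐc[k] C) {β : C →ₗ[k] k} (h1 : β 1 = 1) (a : A) :
    dd β ((rho ψ).toLinearMap.rTensor C (rho ψ a)) = a := by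
  have h4 : (rho ψ).toLinearMap.rTensor C (rho ψ a) = (TensorProduct.assoc k A C C).symm
      ((CoalgebraStruct.comul (R := k) (A := C)).lTensor A (rho ψ a)) := by
    rw [← rho_coassoc, LinearEquiv.symm_apply_apply]
  rw [h4, dd_assoc h1, counit_rho]

/-- `w ↦ (y ↦ (id ⊗ β)(w ρ(y)))`. -/
noncomputable def ee (ψ : A →ₐc[k] C) (β : C →ₗ[k] k) : A ⊗[k] C →ₗ[k] A →ₗ[k] A :=
  ((LinearMap.mul k (A ⊗[k] C)).compl₂ (rho ψ).toLinearMap).compr₂ (eb β)

lemma ee_apply (ψ : A →ₐc[k] C) (β : C →ₗ[k] k) (w : A ⊗[k] C) (y : A) :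
    ee ψ β w y = eb β (w * rho ψ y) := rfl

lemma ee_rho (ψ : A →ₐc[k] C) (β : C →ₗ[k] k) (a y : A) :
    ee ψ β (rho ψ a) y = reyn ψ β (a * y) := by
  rw [ee_apply, ← map_mul, eb_rho]

/-- `y ↦ S(y₁) ⊗ y₂`. -/
noncomputable def sy (k A : Type u) [Field k] [CommRing A] [HopfAlgebra k A] : A →ₗ[k] A ⊗[k] A :=
  (HopfAlgebraStruct.antipode (R := k) (A := A)).rTensor A ∘ₗ CoalgebraStruct.comul (R := k)

/-- The key identity: `∑ (id ⊗ β)(w ρ(S y₁)) y₂ = (id ⊗ β)(w (1 ⊗ S ψ y))`. -/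
lemma sum_ee (ψ : A →ₐc[k] C) (β : C →ₗ[k] k) (w : A ⊗[k] C) (y : A) :
    LinearMap.mul' k A ((ee ψ β w).rTensor A (sy k A y)) =
      eb β (w * ((1 : A) ⊗ₜ[k] HopfAlgebraStruct.antipode k (ψ y))) := by
  have h1 : (toConv (rho ψ))⁻¹ * toConv (Algebra.TensorProduct.includeLeft : A →ₐ[k] A ⊗[k] C) =
      (toConv ((Algebra.TensorProduct.includeRight : C →ₐ[k] A ⊗[k] C).comp
        (ψ : A →ₐ[k] C)))⁻¹ := by
    rw [rho_eq_conv, mul_inv_rev, inv_mul_cancel_right]
  have h2 := congrArg (fun f : WithConv (A →ₐ[k] A ⊗[k] C) => f.ofConv y) h1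
  have h3 : ((toConv ((Algebra.TensorProduct.includeRight : C →ₐ[k] A ⊗[k] C).comp
      (ψ : A →ₐ[k] C)))⁻¹).ofConv y = (1 : A) ⊗ₜ[k] HopfAlgebraStruct.antipode k (ψ y) := by
    change (1 : A) ⊗ₜ[k] ψ (HopfAlgebraStruct.antipode k y) = _
    congr 1
    have h5 : ((toConv (AlgHom.id k C))⁻¹ : WithConv (C →ₐ[k] C)).ofConv (ψ y) =
        (preHom ψ ((toConv (AlgHom.id k C))⁻¹)).ofConv y := rfl
    have h6 : ((toConv (AlgHom.id k C))⁻¹ : WithConv (C →ₐ[k] C)).ofConv (ψ y) =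
      HopfAlgebraStruct.antipode k (ψ y) := rfl
    rw [← h6, h5, map_inv]
    rfl
  rw [← h3, ← h2]
  change _ = eb β (w * (((toConv (rho ψ))⁻¹ * toConv (Algebra.TensorProduct.includeLeft :
    A →ₐ[k] A ⊗[k] C)).ofConv y))
  rw [AlgHom.convMul_def, sy, LinearMap.comp_apply]
  change _ = eb β (w * (Algebra.TensorProduct.lmul' k
      (Algebra.TensorProduct.map _ _ (CoalgebraStruct.comul (R := k) y))))
  generalize CoalgebraStruct.comul (R := k) y = z
  induction z with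
  | zero => simp
  | add z z' hz hz' => simp only [map_add, mul_add, hz, hz']
  | tmul a b =>
    rw [LinearMap.rTensor_tmul, LinearMap.rTensor_tmul, LinearMap.mul'_apply, ee_apply,
      Algebra.TensorProduct.map_tmul, Algebra.TensorProduct.lmul'_apply_tmul, ← eb_mul, mul_assoc]
    rfl

/-- `w ⊗ c ↦ ∑ (id ⊗ β)(w ρ(S y₁)) ⊗ y₂`, `y = σ c`. -/
noncomputable def mm (ψ : A →ₐc[k] C) (β : C →ₗ[k] k) (σ : C →ₗ[k] A) :
    (A ⊗[k] C) ⊗[k] C →ₗ[k] A ⊗[k] A :=
  TensorProduct.lift ((LinearMap.rTensorHom A ∘ₗ ee ψ β).compl₂ (sy k A ∘ₗ σ))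

lemma mm_tmul (ψ : A →ₐc[k] C) (β : C →ₗ[k] k) (σ : C →ₗ[k] A) (w : A ⊗[k] C) (c : C) :
    mm ψ β σ (w ⊗ₜ[k] c) = (ee ψ β w).rTensor A (sy k A (σ c)) := rfl

lemma mul_mm (ψ : A →ₐc[k] C) (β : C →ₗ[k] k) {σ : C →ₗ[k] A} (hσ : ∀ c, ψ (σ c) = c)
    (v : (A ⊗[k] C) ⊗[k] C) : LinearMap.mul' k A (mm ψ β σ v) = dd β v := by
  induction v with
  | zero => simp
  | add x y hx hy => simp only [map_add, hx, hy]
  | tmul w c => rw [mm_tmul, sum_ee, hσ, dd_tmul]

end Maps

section Coinv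

variable (ψ : A →ₐc[k] C)

/-- The coinvariants. -/
noncomputable def coinvSub : Subalgebra k A :=
  AlgHom.equalizer (rho ψ) (Algebra.TensorProduct.includeLeft : A →ₐ[k] A ⊗[k] C)

lemma mem_coinvSub (a : A) : a ∈ coinvSub ψ ↔ rho ψ a = a ⊗ₜ[k] (1 : C) := Iff.rfl

lemma coinv_coinvSub : Coinv ψ (coinvSub ψ) := fun b => b.2

variable {ψ} {β : C →ₗ[k] k}

/-- The Reynolds operator with values in the coinvariants. -/
noncomputable def eB (ψ : A →ₐc[k] C) (β : C →ₗ[k] k) (hβ : IsLInt β) : A →ₗ[coinvSub ψ] coinvSub ψ where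
  toFun a := ⟨reyn ψ β a, rho_reyn ψ hβ a⟩
  map_add' x y := Subtype.ext (map_add (reyn ψ β) x y)
  map_smul' b x := Subtype.ext (reyn_mul ψ β b.2 x)

lemma coe_eB (hβ : IsLInt β) (a : A) : ((eB ψ β hβ a : coinvSub ψ) : A) = reyn ψ β a := rfl

lemma eB_one (hβ : IsLInt β) (h1 : β 1 = 1) : eB ψ β hβ 1 = 1 := Subtype.ext (reyn_one ψ h1)

/-- The section `A → B ⊗ A`, as a `k`-linear map on `A ⊗ C`. -/
noncomputable def sec (ψ : A →ₐc[k] C) (β : C →ₗ[k] k) (hβ : IsLInt β) (σ : C →ₗ[k] A) :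
    A ⊗[k] C →ₗ[k] coinvSub ψ ⊗[k] A :=
  TensorProduct.lift ((LinearMap.rTensorHom A ∘ₗ
    ((LinearMap.mul k A).compr₂ ((eB ψ β hβ).restrictScalars k))).compl₂ (sy k A ∘ₗ σ))

lemma sec_tmul (hβ : IsLInt β) (σ : C →ₗ[k] A) (x : A) (c : C) :
    sec ψ β hβ σ (x ⊗ₜ[k] c) = ((eB ψ β hβ).restrictScalars k ∘ₗ LinearMap.mulLeft k x).rTensor A
      (sy k A (σ c)) := rfl

lemma sec_smul (hβ : IsLInt β) (σ : C →ₗ[k] A) (b : coinvSub ψ) (v : A ⊗[k] C) :
    sec ψ β hβ σ (b • v) = b • sec ψ β hβ σ v := by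
  induction v with
  | zero => simp
  | add x y hx hy => simp only [map_add, smul_add, hx, hy]
  | tmul x c =>
    have h0 : b • (x ⊗ₜ[k] c : A ⊗[k] C) = (b • x) ⊗ₜ[k] c := rfl
    rw [h0, sec_tmul, sec_tmul]
    generalize sy k A (σ c) = z
    induction z with
    | zero => simp
    | add x y hx hy => simp only [map_add, smul_add, hx, hy]
    | tmul p q =>
      rw [LinearMap.rTensor_tmul, LinearMap.rTensor_tmul, smul_tmul']
      congr 1
      change eB ψ β hβ ((b • x) * p) = b • eB ψ β hβ (x * p)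
      rw [← map_smul, smul_mul_assoc]

lemma subtype_sec (hβ : IsLInt β) (σ : C →ₗ[k] A) (v : A ⊗[k] C) :
    (coinvSub ψ).val.toLinearMap.rTensor A (sec ψ β hβ σ v) =
      mm ψ β σ ((rho ψ).toLinearMap.rTensor C v) := by
  induction v with
  | zero => simp
  | add x y hx hy => simp only [map_add, hx, hy]
  | tmul x c =>
    rw [sec_tmul, LinearMap.rTensor_tmul, mm_tmul]
    generalize sy k A (σ c) = z
    induction z with
    | zero => simp
    | add x y hx hy => simp only [map_add, hx, hy]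
    | tmul p q =>
      rw [LinearMap.rTensor_tmul, LinearMap.rTensor_tmul, LinearMap.rTensor_tmul]
      congr 1
      exact (ee_rho ψ β x p).symm

/-- The multiplication `B ⊗ A → A`. -/
noncomputable def mulB (ψ : A →ₐc[k] C) : coinvSub ψ ⊗[k] A →ₐ[coinvSub ψ] A :=
  Algebra.TensorProduct.lift (Algebra.ofId (coinvSub ψ) A) (AlgHom.id k A) fun _ _ => Commute.all _ _

lemma mulB_eq (z : coinvSub ψ ⊗[k] A) : mulB ψ z =
    LinearMap.mul' k A ((coinvSub ψ).val.toLinearMap.rTensor A z) := by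
  induction z with
  | zero => simp
  | add x y hx hy => simp only [map_add, hx, hy]
  | tmul p q =>
    rw [mulB, Algebra.TensorProduct.lift_tmul, LinearMap.rTensor_tmul, LinearMap.mul'_apply]
    rfl

/-- The section of the multiplication `B ⊗ A → A`. -/
noncomputable def secB (ψ : A →ₐc[k] C) (β : C →ₗ[k] k) (hβ : IsLInt β) (σ : C →ₗ[k] A) :
    A →ₗ[coinvSub ψ] coinvSub ψ ⊗[k] A where
  toFun a := sec ψ β hβ σ (rho ψ a)
  map_add' x y := by rw [map_add, map_add]
  map_smul' b x := by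
    rw [RingHom.id_apply, ← sec_smul]
    congr 1
    exact (rhoB (coinv_coinvSub ψ)).toLinearMap.map_smul b x

lemma secB_apply (hβ : IsLInt β) (σ : C →ₗ[k] A) (a : A) :
    secB ψ β hβ σ a = sec ψ β hβ σ (rho ψ a) := rfl

lemma mulB_secB (hβ : IsLInt β) (h1 : β 1 = 1) {σ : C →ₗ[k] A} (hσ : ∀ c, ψ (σ c) = c) (a : A) :
    mulB ψ (secB ψ β hβ σ a) = a := by
  rw [mulB_eq, secB_apply, subtype_sec, mul_mm ψ β hσ, dd_rho ψ h1]

/-- `A` is projective over the coinvariants. -/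
theorem projective (hβ : IsLInt β) (h1 : β 1 = 1) (hψ : Function.Surjective ψ) :
    Module.Projective (coinvSub ψ) A := by
  obtain ⟨σ, hσ⟩ := (ψ : A →ₐ[k] C).toLinearMap.exists_rightInverse_of_surjective
    (LinearMap.range_eq_top.2 hψ)
  exact Module.Projective.of_split (secB ψ β hβ σ) (mulB ψ).toLinearMap
    (LinearMap.ext fun a => mulB_secB hβ h1 (fun c => LinearMap.congr_fun hσ c) a)

/-- `A` is faithfully flat over the coinvariants. -/
theorem faithfullyFlat (hβ : IsLInt β) (h1 : β 1 = 1) (hψ : Function.Surjective ψ) :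
    Module.FaithfullyFlat (coinvSub ψ) A := by
  have := projective hβ h1 hψ
  refine ⟨fun {m} hmax htop => ?_⟩
  have h2 : ∀ x ∈ (m • ⊤ : Submodule (coinvSub ψ) A), eB ψ β hβ x ∈ m := by
    intro x hx
    refine Submodule.smul_induction_on hx (fun r hr n _ => ?_) (fun x y hx hy => ?_)
    · rw [map_smul]
      exact m.mul_mem_right _ hr
    · rw [map_add]
      exact m.add_mem hx hy
  have h3 := h2 1 (by rw [htop]; trivial)
  rw [eB_one hβ h1] at h3
  exact hmax.ne_top ((Ideal.eq_top_iff_one m).2 h3)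

/-- The map `A ⊗ A → A ⊗_B A`. -/
noncomputable def piB (ψ : A →ₐc[k] C) : A ⊗[k] A →ₐ[k] A ⊗[coinvSub ψ] A :=
  Algebra.TensorProduct.lift (iL k A (coinvSub ψ)) (iR k A (coinvSub ψ)) fun _ _ => Commute.all _ _

lemma piB_tmul (a a' : A) : piB ψ (a ⊗ₜ[k] a') = a ⊗ₜ[coinvSub ψ] a' := by
  rw [piB, Algebra.TensorProduct.lift_tmul]
  change (a ⊗ₜ[coinvSub ψ] (1 : A)) * ((1 : A) ⊗ₜ[coinvSub ψ] a') = _
  rw [Algebra.TensorProduct.tmul_mul_tmul, mul_one, one_mul]

lemma piB_subtype (z : coinvSub ψ ⊗[k] A) :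
    piB ψ ((coinvSub ψ).val.toLinearMap.rTensor A z) = (1 : A) ⊗ₜ[coinvSub ψ] mulB ψ z := by
  induction z with
  | zero => simp
  | add x y hx hy => simp only [map_add, hx, hy, tmul_add]
  | tmul p q =>
    rw [LinearMap.rTensor_tmul, piB_tmul, mulB, Algebra.TensorProduct.lift_tmul]
    change ((p : A) ⊗ₜ[coinvSub ψ] q) = (1 : A) ⊗ₜ[coinvSub ψ] (p • q)
    rw [← smul_tmul]
    congr 1
    exact (mul_one _).symm

/-- The left inverse of the canonical map. -/
noncomputable def linv (ψ : A →ₐc[k] C) (β : C →ₗ[k] k) (σ : C →ₗ[k] A) :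
    A ⊗[k] C →ₗ[k] A ⊗[coinvSub ψ] A :=
  (piB ψ).toLinearMap ∘ₗ mm ψ β σ ∘ₗ (TensorProduct.assoc k A C C).symm.toLinearMap ∘ₗ
    (CoalgebraStruct.comul (R := k) (A := C)).lTensor A

lemma linv_rho (hβ : IsLInt β) (h1 : β 1 = 1) {σ : C →ₗ[k] A} (hσ : ∀ c, ψ (σ c) = c) (a : A) :
    linv ψ β σ (rho ψ a) = (1 : A) ⊗ₜ[coinvSub ψ] a := by
  have h4 : (TensorProduct.assoc k A C C).symm
      ((CoalgebraStruct.comul (R := k) (A := C)).lTensor A (rho ψ a)) =
      (rho ψ).toLinearMap.rTensor C (rho ψ a) := by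
    rw [← rho_coassoc, LinearEquiv.symm_apply_apply]
  change piB ψ (mm ψ β σ ((TensorProduct.assoc k A C C).symm
      ((CoalgebraStruct.comul (R := k) (A := C)).lTensor A (rho ψ a)))) = _
  rw [h4, ← subtype_sec hβ, piB_subtype]
  congr 1
  exact mulB_secB hβ h1 hσ a

lemma linv_mul (σ : C →ₗ[k] A) (a : A) (v : A ⊗[k] C) :
    linv ψ β σ ((a ⊗ₜ[k] (1 : C)) * v) = (a ⊗ₜ[coinvSub ψ] (1 : A)) * linv ψ β σ v := by
  change piB ψ (mm ψ β σ ((TensorProduct.assoc k A C C).symm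
      ((CoalgebraStruct.comul (R := k) (A := C)).lTensor A ((a ⊗ₜ[k] (1 : C)) * v)))) =
    (a ⊗ₜ[coinvSub ψ] (1 : A)) * piB ψ (mm ψ β σ ((TensorProduct.assoc k A C C).symm
      ((CoalgebraStruct.comul (R := k) (A := C)).lTensor A v)))
  rw [lTensor_comul_mul]
  generalize (TensorProduct.assoc k A C C).symm
      ((CoalgebraStruct.comul (R := k) (A := C)).lTensor A v) = y
  have h2 : mm ψ β σ (((a ⊗ₜ[k] (1 : C)) ⊗ₜ[k] (1 : C)) * y) = (a ⊗ₜ[k] (1 : A)) * mm ψ β σ y := by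
    induction y with
    | zero => simp
    | add x y hx hy => simp only [map_add, mul_add, hx, hy]
    | tmul w c =>
      rw [Algebra.TensorProduct.tmul_mul_tmul, one_mul, mm_tmul, mm_tmul]
      generalize sy k A (σ c) = z
      induction z with
      | zero => simp
      | add x y hx hy => simp only [map_add, mul_add, hx, hy]
      | tmul p q =>
        rw [LinearMap.rTensor_tmul, LinearMap.rTensor_tmul, Algebra.TensorProduct.tmul_mul_tmul,
          one_mul, ee_apply, ee_apply, mul_assoc, mul_comm, eb_mul, mul_comm]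
  rw [h2, map_mul, piB_tmul]

/-- The canonical map is injective. -/
theorem can_injective (hβ : IsLInt β) (h1 : β 1 = 1) (hψ : Function.Surjective ψ) :
    Function.Injective (can (coinv_coinvSub ψ)) := by
  obtain ⟨σ, hσ⟩ := (ψ : A →ₐ[k] C).toLinearMap.exists_rightInverse_of_surjective
    (LinearMap.range_eq_top.2 hψ)
  have hli : Function.LeftInverse (linv ψ β σ) (can (coinv_coinvSub ψ)) := by
    intro z
    induction z with
    | zero => simp
    | add x y hx hy => simp only [map_add, hx, hy]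
    | tmul a a' =>
      rw [can_tmul, linv_mul, linv_rho hβ h1 (fun c => LinearMap.congr_fun hσ c),
        Algebra.TensorProduct.tmul_mul_tmul, mul_one, one_mul]
  exact hli.injective

/-- The canonical map is surjective. -/
theorem can_surjective {B : Type u} [CommRing B] [Algebra k B] [Algebra B A] [IsScalarTower k B A]
    (h : Coinv ψ B) (hψ : Function.Surjective ψ) : Function.Surjective (can h) := by
  have h3 : postHom ((can h).restrictScalars k) (toConv (iL k A B)) =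
      toConv (Algebra.TensorProduct.includeLeft : A →ₐ[k] A ⊗[k] C) := by
    apply WithConv.ofConv_injective
    refine AlgHom.ext fun a => ?_
    change can h (a ⊗ₜ[B] (1 : A)) = a ⊗ₜ[k] (1 : C)
    rw [can_tmul, map_one, mul_one]
  have h4 : postHom ((can h).restrictScalars k) (toConv (iR k A B)) = toConv (rho ψ) := by
    apply WithConv.ofConv_injective
    refine AlgHom.ext fun a => ?_
    change can h ((1 : A) ⊗ₜ[B] a) = rho ψ a
    rw [can_tmul]
    exact one_mul _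
  have h5 : postHom ((can h).restrictScalars k) ((toConv (iL k A B))⁻¹ * toConv (iR k A B)) =
      toConv ((Algebra.TensorProduct.includeRight : C →ₐ[k] A ⊗[k] C).comp
        (ψ : A →ₐ[k] C)) := by
    rw [map_mul, map_inv, h3, h4, rho_eq_conv, inv_mul_cancel_left]
  intro z
  induction z with
  | zero => exact ⟨0, map_zero _⟩
  | add x y hx hy =>
    obtain ⟨x', rfl⟩ := hx
    obtain ⟨y', rfl⟩ := hy
    exact ⟨x' + y', map_add _ _ _⟩
  | tmul a c =>
    obtain ⟨a', rfl⟩ := hψ c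
    refine ⟨(a ⊗ₜ[B] (1 : A)) * ((toConv (iL k A B))⁻¹ * toConv (iR k A B)).ofConv a', ?_⟩
    have h6 : can h (((toConv (iL k A B))⁻¹ * toConv (iR k A B)).ofConv a') = (1 : A) ⊗ₜ[k] ψ a' :=
      congrArg (fun f : WithConv (A →ₐ[k] A ⊗[k] C) => f.ofConv a') h5
    rw [map_mul, h6, can_tmul, map_one, mul_one, Algebra.TensorProduct.tmul_mul_tmul, mul_one, one_mul]

/-- A point of `C` relating the two inclusions. -/
theorem exists_pt_of_bijective {B : Type u} [CommRing B] [Algebra k B] [Algebra B A]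
    [IsScalarTower k B A] (h : Coinv ψ B) (hb : Function.Bijective (can h)) :
    ∃ g : C →ₐ[k] A ⊗[B] A,
      toConv (iR k A B) = toConv (iL k A B) * toConv (g.comp (ψ : A →ₐ[k] C)) := by
  let e := AlgEquiv.ofBijective (can h) hb
  let g : C →ₐ[k] A ⊗[B] A := (e.symm.toAlgHom.restrictScalars k).comp
    (Algebra.TensorProduct.includeRight : C →ₐ[k] A ⊗[k] C)
  have hg : ∀ c, can h (g c) = (1 : A) ⊗ₜ[k] c := fun c => e.apply_symm_apply _
  refine ⟨g, ?_⟩
  have h3 : postHom ((can h).restrictScalars k) (toConv (iL k A B)) =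
      toConv (Algebra.TensorProduct.includeLeft : A →ₐ[k] A ⊗[k] C) := by
    apply WithConv.ofConv_injective
    refine AlgHom.ext fun a => ?_
    change can h (a ⊗ₜ[B] (1 : A)) = a ⊗ₜ[k] (1 : C)
    rw [can_tmul, map_one, mul_one]
  have h4 : postHom ((can h).restrictScalars k) (toConv (iR k A B)) = toConv (rho ψ) := by
    apply WithConv.ofConv_injective
    refine AlgHom.ext fun a => ?_
    change can h ((1 : A) ⊗ₜ[B] a) = rho ψ a
    rw [can_tmul]
    exact one_mul _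
  have h5 : postHom ((can h).restrictScalars k) (toConv (g.comp (ψ : A →ₐ[k] C))) =
      toConv ((Algebra.TensorProduct.includeRight : C →ₐ[k] A ⊗[k] C).comp
        (ψ : A →ₐ[k] C)) := by
    apply WithConv.ofConv_injective
    exact AlgHom.ext fun a => hg (ψ a)
  have hinj : Function.Injective (postHom (A := A) ((can h).restrictScalars k)) := by
    intro f f' hf
    apply WithConv.ofConv_injective
    refine AlgHom.ext fun a => hb.1 ?_
    exact congrArg (fun f : WithConv (A →ₐ[k] A ⊗[k] C) => f.ofConv a) hf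
  apply hinj
  rw [map_mul, h3, h4, h5, rho_eq_conv]

end Coinv

end K191.RedGalois
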