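import Groth.Agent.Books.ComodHom

/-!
# Simple subcomodules
-/

set_option autoImplicit false

universe u v w w'

open TensorProduct HopfRep

namespace K191.SimpleSub

open Groth.Agent.Books.ComodBasic Groth.Agent.Books.ComodHom

variable {k : Type u} {A : Type v} [Field k] [AddCommGroup A] [Module k A] [Coalgebra k A]
variable {V : Type w} [AddCommGroup V] [Module k V] [Comod k A V]
variable {V' : Type w'} [AddCommGroup V'] [Module k V'] [Comod k A V']

/-- A simple subcomodule. -/
structure IsSimpleSub (k : Type u) (A : Type v) [Field k] [AddCommGroup A] [Module k A] [Coalgebra k A]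
    {V : Type w} [AddCommGroup V] [Module k V] [Comod k A V] (W : Submodule k V) : Prop where
  sub : IsSubcomod (k := k) (A := A) W
  ne_bot : W ≠ ⊥
  eq_or : ∀ U : Submodule k V, U ≤ W → IsSubcomod (k := k) (A := A) U → U = ⊥ ∨ U = W

lemma IsSimpleSub.isSimple {W : Submodule k V} (h : IsSimpleSub k A W) :
    @IsSimpleComod k A _ _ _ _ W _ _ (subComod W h.sub) := by
  letI := subComod W h.sub
  have hs : IsComodHom k A W.subtype := isComodHom_subtype W h.sub
  refine ⟨Submodule.nontrivial_iff_ne_bot.2 h.ne_bot, fun U hU => ?_⟩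
  rcases h.eq_or (U.map W.subtype) (Submodule.map_subtype_le W U) (hs.map hU) with h1 | h1
  · left
    exact Submodule.map_injective_of_injective W.injective_subtype (by rw [h1, Submodule.map_bot])
  · right
    rw [eq_top_iff]
    intro x _
    have h2 : (x : V) ∈ U.map W.subtype := by rw [h1]; exact x.2
    obtain ⟨y, hy, hyx⟩ := h2
    have : y = x := Subtype.ext hyx
    rwa [← this]

lemma isSimpleSub_of {W : Submodule k V} (hW : IsSubcomod (k := k) (A := A) W)
    (h : @IsSimpleComod k A _ _ _ _ W _ _ (subComod W hW)) : IsSimpleSub k A W := by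
  letI := subComod W hW
  have hs : IsComodHom k A W.subtype := isComodHom_subtype W hW
  refine ⟨hW, Submodule.nontrivial_iff_ne_bot.1 h.1, fun U hle hU => ?_⟩
  rcases h.2 (U.comap W.subtype) (hs.comap hU) with h1 | h1
  · left
    rw [eq_bot_iff]
    intro x hx
    have h2 : (⟨x, hle hx⟩ : W) ∈ U.comap W.subtype := hx
    rw [h1, Submodule.mem_bot] at h2
    exact congrArg Subtype.val h2
  · right
    refine le_antisymm hle fun x hx => ?_
    have h2 : (⟨x, hx⟩ : W) ∈ U.comap W.subtype := by rw [h1]; trivial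
    exact h2

/-- Every nonzero subcomodule contains a finite-dimensional simple one. -/
theorem exists_simpleSub_le {W : Submodule k V} (hW : IsSubcomod (k := k) (A := A) W) (h0 : W ≠ ⊥) :
    ∃ S : Submodule k V, S ≤ W ∧ IsSimpleSub k A S ∧ Module.Finite k S := by
  classical
  obtain ⟨v, hv, hv0⟩ := W.ne_bot_iff.1 h0
  let P : ℕ → Prop := fun n => ∃ U : Submodule k V, U ≤ W ∧ IsSubcomod (k := k) (A := A) U ∧
    Module.Finite k U ∧ U ≠ ⊥ ∧ Module.finrank k U = n
  have hP : ∃ n, P n := ⟨_, gen k A v, gen_le hW hv, isSubcomod_gen v, inferInstance,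
    fun h => hv0 ((Submodule.mem_bot k).mp (h ▸ self_mem_gen v)), rfl⟩
  obtain ⟨U, hUW, hU, hfin, hne, hdim⟩ := Nat.find_spec hP
  refine ⟨U, hUW, ⟨hU, hne, fun T hT hTs => ?_⟩, hfin⟩
  rw [or_iff_not_imp_left]
  intro hT0
  have hTf : Module.Finite k T := Submodule.finiteDimensional_of_le hT
  have h1 : Nat.find hP ≤ Module.finrank k T :=
    Nat.find_min' hP ⟨T, hT.trans hUW, hTs, hTf, hT0, rfl⟩
  exact Submodule.eq_of_le_of_finrank_le hT (by omega)

/-- A simple comodule embeds in the coalgebra. -/
theorem exists_embedding [Nontrivial V] : ∃ f : V →ₗ[k] A, IsComodHom k A f ∧ f ≠ 0 := by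
  obtain ⟨v, hv⟩ := exists_ne (0 : V)
  obtain ⟨φ, hφ⟩ : ∃ φ : V →ₗ[k] k, φ v ≠ 0 := by
    by_contra h
    push Not at h
    exact hv ((Module.forall_dual_apply_eq_zero_iff k v).1 h)
  refine ⟨coeffMap A φ, isComodHom_coeffMap φ, fun h => hφ ?_⟩
  rw [← counit_coeffMap (A := A) φ v, h, LinearMap.zero_apply, map_zero]

/-- The range of an injective comodule map from a simple comodule is a simple subcomodule. -/
theorem isSimpleSub_range {f : V →ₗ[k] V'} (hf : IsComodHom k A f) (hinj : Function.Injective f)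
    (hV : IsSimpleComod k A V) : IsSimpleSub k A (LinearMap.range f) := by
  refine ⟨hf.isSubcomod_range, ?_, fun U hU hUs => ?_⟩
  · intro h
    obtain ⟨v, hv⟩ := @exists_ne _ hV.1 (0 : V)
    apply hv
    apply hinj
    rw [map_zero]
    exact (Submodule.mem_bot k).1 (h ▸ LinearMap.mem_range_self f v)
  · rcases hV.2 _ (hf.comap hUs) with h | h
    · left
      rw [eq_bot_iff]
      intro x hx
      obtain ⟨y, rfl⟩ := hU hx
      have h2 : y ∈ U.comap f := hx
      rw [h, Submodule.mem_bot] at h2
      rw [h2, map_zero]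
      exact Submodule.zero_mem _
    · right
      refine le_antisymm hU ?_
      rintro _ ⟨y, rfl⟩
      have h2 : y ∈ U.comap f := by rw [h]; trivial
      exact h2

/-- A subcomodule meeting a simple one nontrivially contains it. -/
lemma IsSimpleSub.le_of_ne {S U : Submodule k V} (hS : IsSimpleSub k A S)
    (hU : IsSubcomod (k := k) (A := A) U) (h : S ⊓ U ≠ ⊥) : S ≤ U := by
  rcases hS.eq_or (S ⊓ U) inf_le_left (IsSubcomod.inf hS.sub hU) with h1 | h1
  · exact absurd h1 h
  · rw [← h1]
    exact inf_le_right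

end K191.SimpleSub
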